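import Groth.Agent.Lib.TorusDescent.Split

/-!
Descent of splittings to a finite Galois extension.
-/

set_option autoImplicit false
universe u
open scoped TensorProduct
open Groth.Agent.H87

namespace Groth.Agent.Lib.TorusDescent

variable {K : Type u} [Field K] {A : Type u} [CommRing A] [Bialgebra K A] {n : ℕ}

theorem bcT2_injective {R R' : Type u} [CommRing R] [Algebra K R] [CommRing R'] [Algebra K R']
    (f : R →ₐ[K] R') (hf : Function.Injective f) : Function.Injective (bcT2 (A := A) f) :=
  Module.Flat.rTensor_preserves_injective_linearMap (M := A ⊗[K] A) f.toLinearMap hf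

/-- Descent of a splitting along an injection of coefficient rings, given descended characters. -/
theorem exists_of_descent {M : Type} [AddCommGroup M] {R R' : Type u} [CommRing R] [Algebra K R] [CommRing R']
    [Algebra K R'] (f : R →ₐ[K] R') (hf : Function.Injective f) (s : Splitting K A M R')
    (hχ : ∀ m, ∃ z, bcT f z = s.χ m)
    (hgen : ∀ a : A, ∃ x : MonoidAlgebra R (Multiplicative M),
      MonoidAlgebra.mapAlgHom (Multiplicative M) f x = s.Ψ.symm ((1 : R') ⊗ₜ[K] a)) :
    Nonempty (Splitting K A M R) := by
  choose z hz using hχ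
  have hinj := bcT_injective (A := A) f hf
  let χ : Multiplicative M →* R ⊗[K] A :=
    { toFun := z
      map_one' := hinj (by rw [hz, map_one, map_one])
      map_mul' := fun a b => hinj (by rw [hz, map_mul, map_mul, hz, hz]) }
  have hcompat : ∀ x : MonoidAlgebra R (Multiplicative M),
      bcT f (MonoidAlgebra.lift R (R ⊗[K] A) (Multiplicative M) χ x) =
        s.Ψ (MonoidAlgebra.mapAlgHom (Multiplicative M) f x) := by
    intro x
    induction x using MonoidAlgebra.induction_linear with
    | zero => simp
    | add a b ha hb => simp only [map_add, ha, hb]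
    | single m r =>
      rw [show MonoidAlgebra.mapAlgHom (Multiplicative M) f (MonoidAlgebra.single m r) =
          MonoidAlgebra.single m (f r) by simp, s.Ψ_single, MonoidAlgebra.lift_single, Algebra.smul_def, map_mul,
        show bcT f (χ m) = s.χ m from hz m, Algebra.smul_def]
      congr 1
  refine ⟨⟨χ, fun m => bcT2_injective f hf ?_, ⟨?_, ?_⟩⟩⟩
  · rw [map_mul, bcT2_comulR, bcT2_inl2, bcT2_inr2, show bcT f (χ m) = s.χ m from hz m, s.comul]
  · intro a b h
    have h1 := congrArg (bcT f) h
    rw [hcompat, hcompat] at h1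
    have h2 := s.Ψ.injective h1
    exact MonoidAlgebra.ext (Finsupp.ext fun m => hf (by
      simpa using congrArg (fun y => y.coeff m) h2))
  · intro y
    induction y using TensorProduct.induction_on with
    | zero => exact ⟨0, map_zero _⟩
    | add a b ha hb =>
      obtain ⟨u, rfl⟩ := ha
      obtain ⟨v, rfl⟩ := hb
      exact ⟨u + v, map_add _ _ _⟩
    | tmul r a =>
      obtain ⟨x, hx⟩ := hgen a
      refine ⟨r • x, hinj ?_⟩
      rw [map_smul, Algebra.smul_def, map_mul, hcompat, hx, AlgEquiv.apply_symm_apply]
      simp [bcT, Algebra.TensorProduct.algebraMap_apply]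

theorem exists_range {R' : Type u} [CommRing R'] [Algebra K R'] (S : Subalgebra K R') (z : R' ⊗[K] A)
    {ι : Type*} [DecidableEq ι] (b : Module.Basis ι K A)
    (hz : ∀ i, TensorProduct.equivFinsuppOfBasisRight b z i ∈ S) : ∃ w, bcT S.val w = z := by
  classical
  refine ⟨(TensorProduct.equivFinsuppOfBasisRight b).symm
    (Finsupp.onFinset (TensorProduct.equivFinsuppOfBasisRight b z).support (fun i => (⟨_, hz i⟩ : S))
      (fun i hi => by
        rw [Finsupp.mem_support_iff]
        intro h
        exact hi (Subtype.ext h))), ?_⟩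
  apply (TensorProduct.equivFinsuppOfBasisRight b).injective
  have hnat : ∀ (w : S ⊗[K] A) (i : ι), TensorProduct.equivFinsuppOfBasisRight b (bcT S.val w) i =
      ((TensorProduct.equivFinsuppOfBasisRight b w i : S) : R') := by
    intro w i
    induction w using TensorProduct.induction_on with
    | zero => simp
    | add x y hx hy => simp [map_add, hx, hy]
    | tmul r a => simp
  refine Finsupp.ext fun i => ?_
  rw [hnat, LinearEquiv.apply_symm_apply]
  rfl

/-- A splitting is defined over a finitely generated subalgebra, hence over a finite extension. -/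
theorem exists_finite [Algebra.FiniteType K A] {L : Type u} [Field L] [Algebra K L]
    (s : Splitting K A (Fin n → ℤ) L) :
    ∃ (N : Type u) (_ : Field N) (_ : Algebra K N), FiniteDimensional K N ∧
      Nonempty (Splitting K A (Fin n → ℤ) N) := by
  classical
  obtain ⟨t, ht⟩ := Algebra.FiniteType.out (R := K) (A := A)
  let b := Module.Free.chooseBasis K A
  let E : L ⊗[K] A ≃ₗ[K] (Module.Free.ChooseBasisIndex K A →₀ L) := TensorProduct.equivFinsuppOfBasisRight b
  let e : Fin n × Bool → Multiplicative (Fin n → ℤ) := fun p =>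
    Multiplicative.ofAdd (if p.2 then Pi.single p.1 (1 : ℤ) else Pi.single p.1 (-1 : ℤ))
  let c₁ : Finset L := Finset.univ.biUnion fun p : Fin n × Bool => (E (s.χ (e p))).support.image (E (s.χ (e p)))
  let c₂ : Finset L := t.biUnion fun a => (s.Ψ.symm ((1 : L) ⊗ₜ[K] a)).coeff.support.image
    (s.Ψ.symm ((1 : L) ⊗ₜ[K] a)).coeff
  let S := Algebra.adjoin K ((c₁ ∪ c₂ : Finset L) : Set L)
  have : Algebra.FiniteType K S := (Subalgebra.fg_iff_finiteType S).1 ⟨c₁ ∪ c₂, rfl⟩
  have hχ : ∀ m, ∃ z, bcT S.val z = s.χ m := by
    have hp : ∀ p, ∃ z, bcT S.val z = s.χ (e p) := fun p => exists_range S _ b fun i => by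
      by_cases hi : E (s.χ (e p)) i = 0
      · exact hi ▸ S.zero_mem
      · refine Algebra.subset_adjoin (Finset.mem_union_left _ (Finset.mem_biUnion.2 ⟨p, Finset.mem_univ _, ?_⟩))
        exact Finset.mem_image_of_mem _ (Finsupp.mem_support_iff.2 hi)
    intro m
    have hspan : m.toAdd ∈ AddSubmonoid.closure (Set.range fun p => (e p).toAdd) := by
      have : m.toAdd = ∑ i, Pi.single i (m.toAdd i) := (Finset.univ_sum_single _).symm
      rw [this]
      refine sum_mem fun i _ => ?_
      rcases Int.eq_nat_or_neg (m.toAdd i) with ⟨k, hk | hk⟩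
      · rw [hk, show Pi.single i ((k : ℤ)) = k • (e (i, true)).toAdd by simp [e, ← Pi.single_smul]]
        exact nsmul_mem (AddSubmonoid.subset_closure (show (e (i, true)).toAdd ∈ Set.range (fun p => (e p).toAdd) from ⟨_, rfl⟩)) k
      · rw [hk, show Pi.single i (-(k : ℤ)) = k • (e (i, false)).toAdd by simp [e, ← Pi.single_smul]]
        exact nsmul_mem (AddSubmonoid.subset_closure (show (e (i, false)).toAdd ∈ Set.range (fun p => (e p).toAdd) from ⟨_, rfl⟩)) k
    suffices ∀ v : Fin n → ℤ, v ∈ AddSubmonoid.closure (Set.range fun p => (e p).toAdd) →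
        ∃ z, bcT S.val z = s.χ (Multiplicative.ofAdd v) from this _ hspan
    intro v hv
    induction hv using AddSubmonoid.closure_induction with
    | mem v hv => obtain ⟨p, rfl⟩ := hv; exact hp p
    | zero => exact ⟨1, by rw [map_one, ofAdd_zero, map_one]⟩
    | add x y _ _ hx hy =>
      obtain ⟨zx, hx⟩ := hx
      obtain ⟨zy, hy⟩ := hy
      exact ⟨zx * zy, by rw [map_mul, hx, hy, ofAdd_add, map_mul]⟩
  have hgen : ∀ a : A, ∃ x : MonoidAlgebra S (Multiplicative (Fin n → ℤ)),
      MonoidAlgebra.mapAlgHom (Multiplicative (Fin n → ℤ)) S.val x = s.Ψ.symm ((1 : L) ⊗ₜ[K] a) := by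
    intro a
    have ha : a ∈ Algebra.adjoin K (t : Set A) := ht ▸ Algebra.mem_top
    induction ha using Algebra.adjoin_induction with
    | mem a ha =>
      refine ⟨.ofCoeff (Finsupp.onFinset (s.Ψ.symm ((1 : L) ⊗ₜ[K] a)).coeff.support (fun m =>
        if h : (s.Ψ.symm ((1 : L) ⊗ₜ[K] a)).coeff m ∈ S then ⟨_, h⟩ else 0) (fun m hm => ?_)), ?_⟩
      · rw [Finsupp.mem_support_iff]
        intro h
        simp [h] at hm
        exact hm (Subtype.ext rfl)
      · refine MonoidAlgebra.ext (Finsupp.ext fun m => ?_)
        have hmem : (s.Ψ.symm ((1 : L) ⊗ₜ[K] a)).coeff m ∈ S := by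
          by_cases hm : (s.Ψ.symm ((1 : L) ⊗ₜ[K] a)).coeff m = 0
          · exact hm ▸ S.zero_mem
          · refine Algebra.subset_adjoin (Finset.mem_union_right _ (Finset.mem_biUnion.2 ⟨a, ha, ?_⟩))
            exact Finset.mem_image_of_mem _ (Finsupp.mem_support_iff.2 hm)
        simp [hmem]
    | algebraMap r => exact ⟨algebraMap K _ r, by rw [AlgHom.commutes]; simp [← s.coord_apply]⟩
    | add x y _ _ hx hy =>
      obtain ⟨u, hu⟩ := hx
      obtain ⟨v, hv⟩ := hy
      exact ⟨u + v, by rw [map_add, hu, hv, TensorProduct.tmul_add, map_add]⟩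
    | mul x y _ _ hx hy =>
      obtain ⟨u, hu⟩ := hx
      obtain ⟨v, hv⟩ := hy
      exact ⟨u * v, by rw [map_mul, hu, hv, ← map_mul, Algebra.TensorProduct.tmul_mul_tmul, one_mul]⟩
  obtain ⟨sS⟩ := exists_of_descent S.val Subtype.val_injective s hχ hgen
  obtain ⟨m, hm⟩ := Ideal.exists_maximal S
  let _ : Field (S ⧸ m) := Ideal.Quotient.field m
  exact ⟨S ⧸ m, inferInstance, inferInstance, finite_of_finite_type_of_isJacobsonRing K (S ⧸ m),
    ⟨sS.bc (Ideal.Quotient.mkₐ K m)⟩⟩

section Derivation

variable {N : Type u} [Field N] [Algebra K N]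

/-- `D ⊗ id`. -/
noncomputable def dT (D : N →ₗ[K] N) (B : Type u) [CommRing B] [Algebra K B] : N ⊗[K] B →ₗ[K] N ⊗[K] B :=
  LinearMap.rTensor B D

theorem dT_mul (D : N →ₗ[K] N) (hD : ∀ x y, D (x * y) = D x * y + x * D y) (B : Type u) [CommRing B] [Algebra K B]
    (u v : N ⊗[K] B) : dT D B (u * v) = dT D B u * v + u * dT D B v := by
  induction u using TensorProduct.induction_on with
  | zero => simp [dT]
  | add a b ha hb => simp only [add_mul, map_add, ha, hb]; abel
  | tmul r a =>
    induction v using TensorProduct.induction_on with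
    | zero => simp [dT]
    | add c d hc hd => simp only [mul_add, map_add, hc, hd]; abel
    | tmul r' a' => simp [dT, hD, TensorProduct.add_tmul]

theorem dT_comulR (D : N →ₗ[K] N) (z : N ⊗[K] A) : dT D _ (comulR N z) = comulR N (dT D A z) := by
  induction z using TensorProduct.induction_on with
  | zero => simp [dT]
  | add x y hx hy => simp only [map_add, hx, hy]
  | tmul r a => simp [dT, comulR]

theorem dT_inl2 (D : N →ₗ[K] N) (z : N ⊗[K] A) : dT D _ (inl2 N z) = inl2 N (dT D A z) := by
  induction z using TensorProduct.induction_on with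
  | zero => simp [dT]
  | add x y hx hy => simp only [map_add, hx, hy]
  | tmul r a => simp [dT, inl2]

theorem dT_inr2 (D : N →ₗ[K] N) (z : N ⊗[K] A) : dT D _ (inr2 N z) = inr2 N (dT D A z) := by
  induction z using TensorProduct.induction_on with
  | zero => simp [dT]
  | add x y hx hy => simp only [map_add, hx, hy]
  | tmul r a => simp [dT, inr2]

/-- Derivations kill characters. -/
theorem dT_χ {M : Type} [AddCommGroup M] (s : Splitting K A M N) (D : N →ₗ[K] N)
    (hD : ∀ x y, D (x * y) = D x * y + x * D y) (m : Multiplicative M) : dT D A (s.χ m) = 0 := by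
  classical
  set h := dT D A (s.χ m)
  have e : comulR N h = inl2 N h * inr2 N (s.χ m) + inl2 N (s.χ m) * inr2 N h := by
    rw [← dT_comulR, s.comul, dT_mul D hD, dT_inl2, dT_inr2]
  have e' := congrArg s.pairMap e
  rw [map_add, map_mul, map_mul, s.pairMap_comulR, s.pairMap_inl2, s.pairMap_inl2, s.pairMap_inr2, s.pairMap_inr2,
    s.Ψ_symm_χ] at e'
  set x := s.Ψ.symm h
  have hx : x = 0 := MonoidAlgebra.ext (Finsupp.ext fun q => by
    have := congrArg (fun y => y.coeff (q, q)) e'
    simp only [MonoidAlgebra.coeff_add, Finsupp.add_apply, GroupLike.diag_coeff, GroupLike.prod_coeff, if_pos rfl,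
      MonoidAlgebra.coeff_single, Finsupp.single_apply] at this
    simp only [MonoidAlgebra.coeff_zero, Finsupp.coe_zero, Pi.zero_apply]
    by_cases hq : m = q
    · subst hq
      simpa using this
    · simpa [hq] using this)
  exact s.Ψ.symm.injective (hx.trans (map_zero _).symm)

/-- A derivation with kernel `N'` descends a splitting to `N'`. -/
theorem exists_of_derivation {M : Type} [AddCommGroup M] (s : Splitting K A M N) (N' : IntermediateField K N)
    (D : N →ₗ[K] N) (hD : ∀ x y, D (x * y) = D x * y + x * D y) (hker : ∀ x, D x = 0 → x ∈ N') :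
    Nonempty (Splitting K A M N') := by
  classical
  let b := Module.Free.chooseBasis K A
  let E : N ⊗[K] A ≃ₗ[K] (Module.Free.ChooseBasisIndex K A →₀ N) := TensorProduct.equivFinsuppOfBasisRight b
  have hnat : ∀ (z : N ⊗[K] A) i, E (dT D A z) i = D (E z i) := by
    intro z i
    induction z using TensorProduct.induction_on with
    | zero => simp [dT]
    | add x y hx hy => simp [map_add, hx, hy]
    | tmul r a => simp [E, dT]
  refine exists_of_descent N'.val Subtype.val_injective s (fun m => ?_) fun a => ?_
  · refine exists_range N'.toSubalgebra (s.χ m) b fun i => hker _ ?_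
    rw [← hnat, dT_χ s D hD]
    simp
  · set x := s.Ψ.symm ((1 : N) ⊗ₜ[K] a)
    have hdΨ : ∀ y : MonoidAlgebra N (Multiplicative M), dT D A (s.Ψ y) =
        s.Ψ (.ofCoeff (y.coeff.mapRange D (map_zero D))) := by
      intro y
      induction y using MonoidAlgebra.induction_linear with
      | zero => simp [dT]
      | add u v hu hv =>
        rw [map_add, map_add, hu, hv, ← map_add]
        congr 1
        refine MonoidAlgebra.ext (Finsupp.ext fun q => ?_)
        simp
      | single q r =>
        have : MonoidAlgebra.ofCoeff ((MonoidAlgebra.single q r).coeff.mapRange D (map_zero D)) =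
            MonoidAlgebra.single q (D r) := MonoidAlgebra.ext (by simp)
        rw [this, s.Ψ_single, s.Ψ_single, Algebra.smul_def, Algebra.smul_def, dT_mul D hD, dT_χ s D hD,
          mul_zero, add_zero]
        simp [dT, Algebra.TensorProduct.algebraMap_apply]
    have hD1 : D 1 = 0 := by
      have := hD 1 1
      simpa using this
    have hx : ∀ q, x.coeff q ∈ N' := fun q => hker _ (by
      have h := hdΨ x
      rw [AlgEquiv.apply_symm_apply] at h
      have h0 : dT D A ((1 : N) ⊗ₜ[K] a) = 0 := by simp [dT, hD1]
      rw [h0, eq_comm] at h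
      have h' := congrArg (fun y => y.coeff q) (s.Ψ.injective (h.trans (map_zero _).symm))
      simpa using h')
    refine ⟨.ofCoeff (Finsupp.onFinset x.coeff.support (fun q => (⟨_, hx q⟩ : N')) (fun q hq => ?_)), ?_⟩
    · rw [Finsupp.mem_support_iff]
      intro h
      exact hq (Subtype.ext h)
    · refine MonoidAlgebra.ext (Finsupp.ext fun q => ?_)
      simp

open Polynomial IntermediateField in
/-- A finite non-separable extension has a derivation whose constants form a proper subextension. -/
theorem exists_derivation [FiniteDimensional K N] (h : ¬ Algebra.IsSeparable K N) :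
    ∃ (N' : IntermediateField K N) (D : N →ₗ[K] N), N' ≠ ⊤ ∧ (∀ x y, D (x * y) = D x * y + x * D y) ∧
      ∀ x, D x = 0 → x ∈ N' := by
  classical
  set S := separableClosure K N
  have hS : S ≠ ⊤ := fun e => h ((separableClosure.eq_top_iff K N).1 e)
  -- a maximal proper intermediate field above the separable closure
  let P : ℕ → Prop := fun d => ∃ F : IntermediateField K N, S ≤ F ∧ F ≠ ⊤ ∧ Module.finrank K F = d
  have hP : ∃ d, P d := ⟨_, S, le_rfl, hS, rfl⟩
  have hbdd : ∀ d, P d → d ≤ Module.finrank K N := by
    rintro _ ⟨F, -, -, rfl⟩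
    exact Submodule.finrank_le F.toSubalgebra.toSubmodule
  obtain ⟨F, hSF, hF, hFd⟩ := Nat.findGreatest_spec (P := P) (hbdd _ hP.choose_spec) hP.choose_spec
  have hmax : ∀ G : IntermediateField K N, F < G → G = ⊤ := by
    intro G hG
    by_contra hne
    have h1 : P (Module.finrank K G) := ⟨G, hSF.trans hG.le, hne, rfl⟩
    have h2 := Nat.le_findGreatest (P := P) (hbdd _ h1) h1
    rw [← hFd] at h2
    exact hG.ne (eq_of_le_of_finrank_le hG.le h2)
  obtain ⟨p, hpN⟩ := ExpChar.exists N
  have : ExpChar S p := RingHom.expChar (algebraMap S N) (algebraMap S N).injective p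
  obtain ⟨x, hxF⟩ : ∃ x, x ∉ F := by
    by_contra hcon
    push Not at hcon
    exact hF (eq_top_iff.2 fun x _ => hcon x)
  have hpi : IsPurelyInseparable S N := separableClosure.isPurelyInseparable K N
  obtain ⟨r, hr⟩ : ∃ r, x ^ p ^ r ∈ F := by
    obtain ⟨r, y, hy⟩ := (isPurelyInseparable_iff_pow_mem S p).1 hpi x
    exact ⟨r, hy ▸ hSF y.2⟩
  -- the last power outside
  have hex : ∃ r, x ^ p ^ r ∈ F := ⟨r, hr⟩
  let r₀ := Nat.find hex
  have hr₀ : 0 < r₀ := Nat.pos_of_ne_zero fun h0 => hxF (by simpa [h0, r₀] using (Nat.find_spec hex))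
  let β := x ^ p ^ (r₀ - 1)
  have hβF : β ∉ F := Nat.find_min hex (by omega)
  have hβp : β ^ p ∈ F := by
    have := Nat.find_spec hex
    rwa [show β ^ p = x ^ p ^ r₀ by rw [← pow_mul, ← pow_succ]; congr 2; omega]
  have hp : p.Prime := by
    rcases expChar_is_prime_or_one N p with hp | hp
    · exact hp
    · exact absurd (by simpa [hp] using hβp) hβF
  have : Fact p.Prime := ⟨hp⟩
  have : CharP N p := by
    cases hpN with
    | zero => exact absurd hp Nat.not_prime_one
    | prime _ => assumption
  have hgen : F⟮β⟯ = ⊤ := by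
    have hlt : F < (F⟮β⟯).restrictScalars K := by
      refine lt_of_le_of_ne (fun y hy => (F⟮β⟯).algebraMap_mem ⟨y, hy⟩) fun e => hβF ?_
      rw [e]
      exact mem_adjoin_simple_self F β
    exact restrictScalars_eq_top_iff.1 (hmax _ hlt)
  let c : F := ⟨β ^ p, hβp⟩
  let f : F[X] := X ^ p - C c
  have hf0 : aeval β f = 0 := by simp [f, c]
  have hirr : Irreducible f := by
    refine X_pow_sub_C_irreducible_of_prime hp fun z hz => hβF ?_
    have hz' : (z : N) ^ p = β ^ p := congrArg Subtype.val hz
    rw [← frobenius_inj N p (show frobenius N p z = frobenius N p β from hz')]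
    exact z.2
  have hmin : minpoly F β = f := (minpoly.eq_of_irreducible_of_monic hirr hf0
    (monic_X_pow_sub_C c hp.ne_zero)).symm
  have hint : IsIntegral F β := ⟨f, monic_X_pow_sub_C c hp.ne_zero, hf0⟩
  have hsurj : ∀ y : N, ∃ P : F[X], aeval β P = y := fun y => by
    have hy : y ∈ (F⟮β⟯).toSubalgebra := hgen ▸ IntermediateField.mem_top
    rw [adjoin_simple_toSubalgebra_of_isAlgebraic hint.isAlgebraic, Algebra.adjoin_singleton_eq_range_aeval] at hy
    exact hy
  have hwd : ∀ P : F[X], aeval β P = 0 → aeval β (derivative P) = 0 := fun P hP => by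
    obtain ⟨Q, rfl⟩ := minpoly.dvd F β hP
    rw [hmin, derivative_mul, map_add, map_mul, map_mul, hf0, zero_mul, add_zero]
    simp [f, CharP.cast_eq_zero N p, derivative_pow, map_natCast]
  choose Q hQ using hsurj
  have hindep : ∀ P y, aeval β P = y → aeval β (derivative (Q y)) = aeval β (derivative P) := fun P y h => by
    rw [← sub_eq_zero, ← map_sub, ← derivative_sub]
    exact hwd _ (by rw [map_sub, hQ, h, sub_self])
  let D : N →ₗ[K] N :=
    { toFun := fun y => aeval β (derivative (Q y))
      map_add' := fun a b => by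
        rw [hindep (Q a + Q b) (a + b) (by rw [map_add, hQ, hQ]), derivative_add, map_add]
      map_smul' := fun k a => by
        rw [hindep (C (algebraMap K F k) * Q a) (k • a) (by
          rw [map_mul, aeval_C, hQ, ← IsScalarTower.algebraMap_apply, Algebra.smul_def]),
          derivative_C_mul, map_mul, aeval_C, RingHom.id_apply, ← IsScalarTower.algebraMap_apply, Algebra.smul_def] }
  refine ⟨F, D, hF, fun a b => ?_, fun y hy => ?_⟩
  · change aeval β (derivative (Q (a * b))) = aeval β (derivative (Q a)) * b + a * aeval β (derivative (Q b))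
    rw [hindep (Q a * Q b) (a * b) (by rw [map_mul, hQ, hQ]), derivative_mul, map_add, map_mul, map_mul, hQ, hQ]
  · change aeval β (derivative (Q y)) = 0 at hy
    set P := Q y %ₘ f
    have hPy : aeval β P = y := by
      rw [show P = Q y - f * (Q y /ₘ f) from modByMonic_eq_sub_mul_div _ _, map_sub, map_mul, hf0, zero_mul,
        sub_zero, hQ]
    have hPdeg : P.natDegree < p := by
      have h1 := natDegree_modByMonic_lt (Q y) (monic_X_pow_sub_C c hp.ne_zero) (fun e => by
        have := congrArg natDegree e
        simp [f, natDegree_X_pow_sub_C] at this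
        exact hp.ne_zero this)
      rwa [natDegree_X_pow_sub_C] at h1
    have hd0 : derivative P = 0 := by
      by_contra hne
      have h1 : (minpoly F β).degree ≤ (derivative P).degree := minpoly.degree_le_of_ne_zero F β hne (by
        rw [← hindep P y hPy]; exact hy)
      rw [hmin, degree_X_pow_sub_C hp.pos] at h1
      have h2 := degree_derivative_lt (fun e : P = 0 => hne (by rw [e, derivative_zero]))
      have h3 : P.degree < (p : WithBot ℕ) := lt_of_le_of_lt degree_le_natDegree (by exact_mod_cast hPdeg)
      exact absurd (h1.trans h2.le) (not_le.2 h3)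
    have : CharP F p := (RingHom.charP_iff (algebraMap F N) (algebraMap F N).injective p).2 inferInstance
    have hP0 : P = C (P.coeff 0) := by
      refine Polynomial.ext fun i => ?_
      rcases i with _ | i
      · simp
      · rw [coeff_C_succ]
        by_cases hi : i + 1 < p
        · have hc := congrArg (fun q => coeff q i) hd0
          simp only [coeff_derivative, coeff_zero, mul_eq_zero] at hc
          refine hc.resolve_right fun hz => ?_
          have hz' : ((i + 1 : ℕ) : F) = 0 := by exact_mod_cast hz
          rw [CharP.cast_eq_zero_iff F p] at hz'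
          exact absurd (Nat.le_of_dvd (by omega) hz') (by omega)
        · exact coeff_eq_zero_of_natDegree_lt (by omega)
    rw [← hPy, hP0, aeval_C]
    exact (P.coeff 0).2

end Derivation

/-- A splitting is defined over a finite separable extension. -/
theorem exists_separable {N : Type u} [Field N] [Algebra K N] [FiniteDimensional K N] {M : Type} [AddCommGroup M]
    (s : Splitting K A M N) :
    ∃ F : IntermediateField K N, Algebra.IsSeparable K F ∧ Nonempty (Splitting K A M F) := by
  obtain ⟨d, hd⟩ : ∃ d, Module.finrank K N = d := ⟨_, rfl⟩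
  induction d using Nat.strong_induction_on generalizing N with
  | _ d ih =>
    by_cases h : Algebra.IsSeparable K N
    · exact ⟨⊤, inferInstance, ⟨s.bc IntermediateField.topEquiv.symm.toAlgHom⟩⟩
    · obtain ⟨N', D, hN', hD, hker⟩ := exists_derivation h
      obtain ⟨s'⟩ := exists_of_derivation s N' D hD hker
      have hlt : Module.finrank K N' < d := hd ▸ Submodule.finrank_lt (s := N'.toSubalgebra.toSubmodule) (fun e =>
        hN' (eq_top_iff.2 fun x _ => show x ∈ N'.toSubalgebra.toSubmodule from e ▸ Submodule.mem_top))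
      obtain ⟨F, hF, ⟨sF⟩⟩ := ih _ hlt s' rfl
      have := hF
      exact ⟨IntermediateField.lift F, AlgEquiv.Algebra.isSeparable (IntermediateField.liftAlgEquiv F),
        ⟨sF.bc (IntermediateField.liftAlgEquiv F).toAlgHom⟩⟩

/-- A splitting is defined over a finite Galois extension. -/
theorem exists_galois [Algebra.FiniteType K A] {L : Type u} [Field L] [Algebra K L]
    (s : Splitting K A (Fin n → ℤ) L) :
    ∃ (N : Type u) (_ : Field N) (_ : Algebra K N), FiniteDimensional K N ∧ IsGalois K N ∧
      Nonempty (Splitting K A (Fin n → ℤ) N) := by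
  obtain ⟨N, _, _, _, ⟨sN⟩⟩ := exists_finite s
  obtain ⟨F, hF, ⟨sF⟩⟩ := exists_separable sN
  let f : F →ₐ[K] SeparableClosure K := IsSepClosed.lift
  have : IsGalois K (IntermediateField.normalClosure K F (SeparableClosure K)) :=
    { to_isSeparable := Algebra.isSeparable_tower_bot_of_isSeparable K _ (SeparableClosure K)
      to_normal := inferInstance }
  exact ⟨IntermediateField.normalClosure K F (SeparableClosure K), inferInstance, inferInstance, inferInstance,
    this, ⟨sF.bc (f.codRestrict (IntermediateField.normalClosure K F (SeparableClosure K)).toSubalgebra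
      fun x => AlgHom.fieldRange_le_normalClosure f ⟨x, rfl⟩)⟩⟩

end Groth.Agent.Lib.TorusDescent
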