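import Groth.Agent.Lib.TorusDescent.Points

/-!
Torsion points of tori without rational cocharacters, and the homomorphism from a cocharacter.
-/

set_option autoImplicit false
universe u
open scoped TensorProduct
open Groth.Agent.H87

namespace Groth.Agent.Lib.TorusDescent

variable {K : Type u} [Field K] {A : Type u} [CommRing A] [Bialgebra K A] {n : ℕ}
variable {N : Type u} [Field N] [Algebra K N]

section act

variable (s : Splitting K A (Fin n → ℤ) N)

/-- The Galois action as integer matrices. -/
noncomputable def actGL : (N ≃ₐ[K] N) →* Matrix.GeneralLinearGroup (Fin n) ℤ :=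
  (Matrix.GeneralLinearGroup.toLin.trans
    (LinearMap.GeneralLinearGroup.generalLinearEquiv ℤ (Fin n → ℤ))).symm.toMonoidHom.comp (act s)

theorem actGL_eq_iff (σ τ : N ≃ₐ[K] N) : actGL s σ = actGL s τ ↔ act s σ = act s τ :=
  (Matrix.GeneralLinearGroup.toLin.trans
    (LinearMap.GeneralLinearGroup.generalLinearEquiv ℤ (Fin n → ℤ))).symm.injective.eq_iff

variable [FiniteDimensional K N]

instance finite_range : Finite (actGL s).range := Finite.of_surjective _ (actGL s).rangeRestrict_surjective

/-- An invariant projection of a surjective cocharacter, or the characters sum to zero on orbits. -/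
theorem exists_lam_or_sum :
    (∃ lam : (Fin n → ℤ) →+ ℤ, Function.Surjective lam ∧ ∀ σ m, lam (act s σ m) = lam m) ∨
    ∀ m : Fin n → ℤ, ∃ (ι : Type u) (_ : Fintype ι) (σ : ι → (N ≃ₐ[K] N)),
      Fintype.card ι = Nat.card (actGL s).range ∧ ∑ i, act s (σ i) m = 0 := by
  classical
  by_cases h : ∃ lam : (Fin n → ℤ) →+ ℤ, lam ≠ 0 ∧ ∀ σ m, lam (act s σ m) = lam m
  · obtain ⟨lam, h0, hlam⟩ := h
    left
    obtain ⟨k, hk⟩ := Int.subgroup_cyclic lam.range
    have hk' : ∀ m, ∃ j, lam m = j * k := fun m => by
      have : lam m ∈ lam.range := ⟨m, rfl⟩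
      rw [hk, AddSubgroup.mem_closure_singleton] at this
      obtain ⟨j, hj⟩ := this
      exact ⟨j, by rw [← hj]; simp⟩
    have hk0 : k ≠ 0 := fun e => h0 (AddMonoidHom.ext fun m => by
      obtain ⟨j, hj⟩ := hk' m
      rw [hj, e, mul_zero]
      rfl)
    choose j hj using hk'
    refine ⟨AddMonoidHom.mk' j fun a b => ?_, fun y => ?_, fun σ m => ?_⟩
    · exact mul_right_cancel₀ hk0 (by rw [add_mul, ← hj, ← hj, ← hj, map_add])
    · obtain ⟨m, hm⟩ : y * k ∈ lam.range := by
        rw [hk, AddSubgroup.mem_closure_singleton]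
        exact ⟨y, by simp⟩
      exact ⟨m, mul_right_cancel₀ hk0 ((hj m).symm.trans hm)⟩
    · exact mul_right_cancel₀ hk0 (by
        change j (act s σ m) * k = j m * k
        rw [← hj, ← hj, hlam])
  · right
    push Not at h
    intro m
    have := Fintype.ofFinite (actGL s).range
    let σ : (actGL s).range → (N ≃ₐ[K] N) := fun g => g.2.choose
    have hσ : ∀ g : (actGL s).range, actGL s (σ g) = g := fun g => g.2.choose_spec
    let S : (Fin n → ℤ) →+ (Fin n → ℤ) :=
      AddMonoidHom.mk' (fun v => ∑ g, act s (σ g) v) fun a b => by simp [map_add, Finset.sum_add_distrib]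
    have hS : ∀ τ v, S (act s τ v) = S v := by
      intro τ v
      let gτ : (actGL s).range := ⟨actGL s τ, τ, rfl⟩
      change ∑ g, act s (σ g) (act s τ v) = ∑ g, act s (σ g) v
      refine Fintype.sum_equiv (Equiv.mulRight gτ) _ _ fun g => ?_
      have : act s (σ (g * gτ)) = act s (σ g * τ) := (actGL_eq_iff s _ _).1 (by
        rw [hσ, map_mul, hσ]
        rfl)
      rw [Equiv.coe_mulRight, this, map_mul]
      rfl
    have hSm : S m = 0 := funext fun i => by
      by_contra hne
      let lam : (Fin n → ℤ) →+ ℤ := (Pi.evalAddMonoidHom (fun _ : Fin n => ℤ) i).comp S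
      obtain ⟨τ, v, hv⟩ := h lam (fun e => hne (DFunLike.congr_fun e m))
      exact hv (congrFun (hS τ v) i)
    exact ⟨ULift.{u} (actGL s).range, inferInstance, fun g => σ g.down, (Fintype.card_ulift _).trans Nat.card_eq_fintype_card.symm,
      (Fintype.sum_equiv Equiv.ulift _ _ fun _ => rfl).trans hSm⟩

end act

section torsion

variable [FiniteDimensional K N] (s : Splitting K A (Fin n → ℤ) N)

/-- The value of a point as a homomorphism. -/
noncomputable def valHom (x : A →ₐ[K] K) : Multiplicative (Fin n → ℤ) →* N :=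
  { toFun := val s x, map_one' := val_one s x, map_mul' := val_mul s x }

/-- Points whose values are rational are killed by the order of the group. -/
theorem pow_card_eq_one (hsum : ∀ m : Fin n → ℤ, ∃ (ι : Type u) (_ : Fintype ι) (σ : ι → (N ≃ₐ[K] N)),
      Fintype.card ι = Nat.card (actGL s).range ∧ ∑ i, act s (σ i) m = 0)
    (x : WithConv (A →ₐ[K] K)) (hval : ∀ m, val s x.ofConv m ∈ Set.range (algebraMap K N)) :
    x ^ Nat.card (actGL s).range = 1 := by
  rw [pow_eq_one_iff s]
  intro m
  obtain ⟨ι, _, σ, hcard, h0⟩ := hsum m.toAdd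
  have h1 : valHom s x.ofConv (∏ i, rho s (σ i) m) = 1 := by
    have : (∏ i, rho s (σ i) m) = 1 := by
      rw [← Multiplicative.toAdd.injective.eq_iff, toAdd_prod, toAdd_one]
      exact h0
    rw [this, map_one]
  rw [map_prod] at h1
  have h2 : ∀ i, valHom s x.ofConv (rho s (σ i) m) = val s x.ofConv m := fun i => by
    change val s x.ofConv (rho s (σ i) m) = _
    rw [val_rho]
    obtain ⟨c, hc⟩ := hval m
    rw [← hc, AlgEquiv.commutes]
  rw [Finset.prod_congr rfl fun i _ => h2 i, Finset.prod_const, Finset.card_univ, hcard] at h1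
  exact h1

omit [FiniteDimensional K N] in
theorem mem_range_of_splits {j : ℕ} (hj : 0 < j) (hK : (Polynomial.X ^ j - 1 : Polynomial K).Splits) {v : N}
    (hv : v ^ j = 1) : v ∈ Set.range (algebraMap K N) := by
  classical
  have hne : (Polynomial.X ^ j - 1 : Polynomial N) ≠ 0 := Polynomial.X_pow_sub_C_ne_zero hj (1 : N)
  have hmem : v ∈ ((Polynomial.X ^ j - 1 : Polynomial K).map (algebraMap K N)).roots := by
    rw [Polynomial.map_sub, Polynomial.map_pow, Polynomial.map_X, Polynomial.map_one, Polynomial.mem_roots hne]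
    simp [hv]
  rw [hK.roots_map, Multiset.mem_map] at hmem
  obtain ⟨c, -, rfl⟩ := hmem
  exact ⟨c, rfl⟩

omit [FiniteDimensional K N] in
include s in
/-- A torsion point has order prime to the characteristic. -/
theorem orderOf_ne_zero (x : WithConv (A →ₐ[K] K)) (hx : IsOfFinOrder x) : ((orderOf x : ℕ) : K) ≠ 0 := by
  intro h0
  obtain ⟨p, hp⟩ := CharP.exists K
  have hpj := (CharP.cast_eq_zero_iff K p _).1 h0
  rcases CharP.char_is_prime_or_zero K p with hpr | rfl
  · have : Fact p.Prime := ⟨hpr⟩
    have : CharP N p := (RingHom.charP_iff (algebraMap K N) (algebraMap K N).injective p).1 hp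
    obtain ⟨r, hr⟩ := hpj
    have hr0 : 0 < r := by
      rcases Nat.eq_zero_or_pos r with rfl | h
      · exact absurd (by simpa using hr) hx.orderOf_pos.ne'
      · exact h
    have hle : orderOf x ≤ r := orderOf_le_of_pow_eq_one hr0 ((pow_eq_one_iff s x r).2 fun m => by
      have h := (pow_eq_one_iff s x _).1 (pow_orderOf_eq_one x) m
      rw [hr, mul_comm, pow_mul] at h
      exact frobenius_inj N p (by rw [frobenius_def, frobenius_def, h, one_pow]))
    have h2 := hpr.two_le
    rw [hr] at hle
    have : 2 * r ≤ p * r := Nat.mul_le_mul_right r h2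
    omega
  · exact absurd (by simpa using hpj) hx.orderOf_pos.ne'

include s in
/-- Counting a finite group of points. -/
theorem card_le_pow {h : ℕ} (hh : 0 < h) (G : Set (WithConv (A →ₐ[K] K))) (hG : ∀ x ∈ G, x ^ h = 1) :
    G.Finite ∧ Nat.card G ≤ h ^ n := by
  classical
  let f : G → (Fin n → {v // v ∈ (Polynomial.nthRootsFinset h (1 : N))}) := fun x i =>
    ⟨val s x.1.ofConv (Multiplicative.ofAdd (Pi.single i 1)), by
      rw [Polynomial.mem_nthRootsFinset hh]
      exact (pow_eq_one_iff s x.1 h).1 (hG _ x.2) _⟩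
  have hf : Function.Injective f := fun x y hxy => by
    refine Subtype.ext (WithConv.ofConv_injective (val_ext s fun m => ?_))
    have key : (valHom s x.1.ofConv).toHomUnits = (valHom s y.1.ofConv).toHomUnits := by
      apply MonoidHom.toAdditiveRight.injective
      refine AddMonoidHom.functions_ext' _ _ _ (fun i => AddMonoidHom.ext_int ?_)
      exact congrArg Additive.ofMul (Units.ext (congrArg Subtype.val (congrFun hxy i)))
    exact congrArg Units.val (DFunLike.congr_fun key m)
  have := Finite.of_injective f hf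
  refine ⟨Set.toFinite G, (Nat.card_le_card_of_injective f hf).trans ?_⟩
  rw [Nat.card_pi, Finset.prod_const, Finset.card_univ, Fintype.card_fin, Nat.card_eq_fintype_card,
    Fintype.card_coe]
  refine Nat.pow_le_pow_left ?_ n
  rw [Polynomial.nthRootsFinset_def]
  exact (Multiset.toFinset_card_le _).trans (Polynomial.card_nthRoots h 1)

end torsion

section hom

variable {M : Type} [AddCommGroup M] [FiniteDimensional K N] [IsGalois K N] (s : Splitting K A M N)

/-- The point of `A` from a unit. -/
noncomputable def unitPt (φ : A →ₐ[K] MonoidAlgebra K (Multiplicative ℤ)) {Γ : Type u} [CommRing Γ] [Algebra K Γ]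
    (u : Γˣ) : A →ₐ[K] Γ :=
  (MonoidAlgebra.lift K Γ (Multiplicative ℤ) ((Units.coeHom Γ).comp (zpowersHom Γˣ u))).comp φ

/-- A surjective invariant cocharacter gives a surjective homomorphism compatible with multiplication. -/
theorem exists_hom (lam : M →+ ℤ) (hlam : ∀ σ m, lam (act s σ m) = lam m) (hsurj : Function.Surjective lam) :
    ∃ φ : A →ₐ[K] MonoidAlgebra K (Multiplicative ℤ), Function.Surjective φ ∧
      ∀ (Γ : Type u) [CommRing Γ] [Algebra K Γ] (u v : Γˣ),
        (WithConv.toConv (unitPt φ u) * WithConv.toConv (unitPt φ v)) =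
          WithConv.toConv (unitPt φ (u * v)) := by
  classical
  obtain ⟨φ, hφ⟩ := exists_cochar s lam hlam
  refine ⟨φ, ?_, fun Γ _ _ u v => ?_⟩
  · obtain ⟨π, hπ⟩ := Module.Projective.exists_dual_ne_zero K (x := (1 : N)) one_ne_zero
    let π₁ : N →ₗ[K] K := (π 1)⁻¹ • π
    have hπ1 : π₁ 1 = 1 := by simp [π₁, hπ]
    let P : MonoidAlgebra N (Multiplicative ℤ) → MonoidAlgebra K (Multiplicative ℤ) := fun y =>
      .ofCoeff (y.coeff.mapRange π₁ (map_zero π₁))
    have hPadd : ∀ a b, P (a + b) = P a + P b := fun a b => MonoidAlgebra.ext (Finsupp.ext fun k => by simp [P])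
    have hPr : ∀ (r : N) (y : MonoidAlgebra K (Multiplicative ℤ)),
        P (r • MonoidAlgebra.mapAlgHom (Multiplicative ℤ) (Algebra.ofId K N) y) = π₁ r • y := fun r y => by
      refine MonoidAlgebra.ext (Finsupp.ext fun k => ?_)
      simp only [P, MonoidAlgebra.coeff_ofCoeff, Finsupp.mapRange_apply, MonoidAlgebra.coeff_smul,
        Finsupp.smul_apply, smul_eq_mul]
      rw [show (MonoidAlgebra.mapAlgHom (Multiplicative ℤ) (Algebra.ofId K N) y).coeff k =
          algebraMap K N (y.coeff k) by simp,
        mul_comm, ← Algebra.smul_def, map_smul, smul_eq_mul, mul_comm]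
    have hmem : ∀ z : N ⊗[K] A,
        ∃ a, φ a = P (MonoidAlgebra.mapDomainAlgHom N N (AddMonoidHom.toMultiplicative lam) (s.Ψ.symm z)) := by
      intro z
      induction z using TensorProduct.induction_on with
      | zero => exact ⟨0, by rw [map_zero, map_zero, map_zero]; exact MonoidAlgebra.ext (by simp [P])⟩
      | add x y hx hy =>
        obtain ⟨a, ha⟩ := hx
        obtain ⟨b, hb⟩ := hy
        exact ⟨a + b, by rw [map_add, map_add, map_add, hPadd, ha, hb]⟩
      | tmul r a =>
        refine ⟨π₁ r • a, ?_⟩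
        rw [show r ⊗ₜ[K] a = r • ((1 : N) ⊗ₜ[K] a) by rw [TensorProduct.smul_tmul', smul_eq_mul, mul_one],
          map_smul s.Ψ.symm, ← s.coord_apply, map_smul φ,
          map_smul (MonoidAlgebra.mapDomainAlgHom N N (AddMonoidHom.toMultiplicative lam)),
          show MonoidAlgebra.mapDomainAlgHom N N (AddMonoidHom.toMultiplicative lam) (s.coord a) =
            MonoidAlgebra.mapDomainAlgHom K N (AddMonoidHom.toMultiplicative lam) (s.coord a) from rfl,
          ← hφ, hPr]
    intro y
    induction y using MonoidAlgebra.induction_linear with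
    | zero => exact ⟨0, map_zero φ⟩
    | add a b ha hb =>
      obtain ⟨x, rfl⟩ := ha
      obtain ⟨x', rfl⟩ := hb
      exact ⟨x + x', map_add φ x x'⟩
    | single k r =>
      obtain ⟨m, hm⟩ := hsurj k.toAdd
      obtain ⟨a, ha⟩ := hmem (s.Ψ (MonoidAlgebra.single (Multiplicative.ofAdd m) (algebraMap K N r)))
      refine ⟨a, ha.trans ?_⟩
      rw [AlgEquiv.symm_apply_apply, MonoidAlgebra.mapDomainAlgHom_apply, MonoidAlgebra.mapDomain_single,
        show AddMonoidHom.toMultiplicative lam (Multiplicative.ofAdd m) = k from congrArg Multiplicative.ofAdd hm]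
      refine MonoidAlgebra.ext ?_
      simp only [P, MonoidAlgebra.coeff_ofCoeff, MonoidAlgebra.coeff_single, Finsupp.mapRange_single]
      rw [Algebra.algebraMap_eq_smul_one, map_smul, hπ1, smul_eq_mul, mul_one]
  · have key : ∀ (w : Γˣ) (m : Multiplicative M), evalPt N (unitPt φ w) (s.χ m) =
        (1 : N) ⊗ₜ[K] ((w ^ lam m.toAdd : Γˣ) : Γ) := by
      intro w m
      let L : MonoidAlgebra N (Multiplicative ℤ) →ₐ[N] N ⊗[K] Γ :=
        MonoidAlgebra.lift N (N ⊗[K] Γ) (Multiplicative ℤ)
          ((Algebra.TensorProduct.includeRight : Γ →ₐ[K] N ⊗[K] Γ).toMonoidHom.comp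
            ((Units.coeHom Γ).comp (zpowersHom Γˣ w)))
      have h1 : (L.restrictScalars K).comp (MonoidAlgebra.mapAlgHom (Multiplicative ℤ) (Algebra.ofId K N)) =
          (Algebra.TensorProduct.includeRight : Γ →ₐ[K] N ⊗[K] Γ).comp
            (MonoidAlgebra.lift K Γ (Multiplicative ℤ) ((Units.coeHom Γ).comp (zpowersHom Γˣ w))) := by
        refine MonoidAlgebra.algHom_ext (fun k => ?_) ?_
        · simp [L]
        · ext
      have h2 : evalPt N (unitPt φ w) =
          (L.comp (MonoidAlgebra.mapDomainAlgHom N N (AddMonoidHom.toMultiplicative lam))).comp s.Ψ.symm.toAlgHom := by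
        refine Algebra.TensorProduct.ext ?_ (AlgHom.ext fun a => ?_)
        · ext
        · change (1 : N) ⊗ₜ[K] (unitPt φ w a) =
            L (MonoidAlgebra.mapDomainAlgHom N N (AddMonoidHom.toMultiplicative lam) (s.coord a))
          rw [show MonoidAlgebra.mapDomainAlgHom N N (AddMonoidHom.toMultiplicative lam) (s.coord a) =
              MonoidAlgebra.mapDomainAlgHom K N (AddMonoidHom.toMultiplicative lam) (s.coord a) from rfl, ← hφ]
          exact (DFunLike.congr_fun h1 (φ a)).symm
      rw [h2]
      simp [s.Ψ_symm_χ, L]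
    refine WithConv.ofConv_injective (pt_ext s fun m => ?_)
    rw [evalPt_mul _ _ (s.comul m)]
    simp only [key, WithConv.ofConv_toConv, Algebra.TensorProduct.tmul_mul_tmul, one_mul, mul_zpow, Units.val_mul]

end hom

end Groth.Agent.Lib.TorusDescent
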