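import Groth.Agent.Lib.TorusDescent.Descend

/-!
Galois action on the characters, rational points and rational cocharacters.
-/

set_option autoImplicit false
universe u
open scoped TensorProduct
open Groth.Agent.H87

namespace Groth.Agent.Lib.TorusDescent

variable {K : Type u} [Field K] {A : Type u} [CommRing A] [Bialgebra K A] {n : ℕ}

/-- Evaluation of a point after base change. -/
noncomputable def evalPt {B : Type u} [CommRing B] [Algebra K B] (R : Type u) [CommRing R] [Algebra K R]
    (p : A →ₐ[K] B) : R ⊗[K] A →ₐ[R] R ⊗[K] B :=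
  Algebra.TensorProduct.map (AlgHom.id R R) p

theorem evalPt_mul {B : Type u} [CommRing B] [Algebra K B] {R : Type u} [CommRing R] [Algebra K R]
    (p q : WithConv (A →ₐ[K] B)) {g : R ⊗[K] A} (hg : comulR R g = inl2 R g * inr2 R g) :
    evalPt R (p * q).ofConv g = evalPt R p.ofConv g * evalPt R q.ofConv g := by
  let φ : R ⊗[K] (A ⊗[K] A) →ₐ[R] R ⊗[K] B :=
    Algebra.TensorProduct.map (AlgHom.id R R)
      (Algebra.TensorProduct.lift p.ofConv q.ofConv fun _ _ => Commute.all _ _)
  have h1 : ∀ z, φ (comulR R z) = evalPt R (p * q).ofConv z := fun z => by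
    induction z using TensorProduct.induction_on with
    | zero => simp
    | add a b ha hb => simp only [map_add, ha, hb]
    | tmul r a =>
      simp only [φ, comulR, evalPt, Algebra.TensorProduct.map_tmul, AlgHom.id_apply, Bialgebra.comulAlgHom_apply]
      congr 1
      exact (AlgHom.convMul_apply p q a).symm
  have h2 : ∀ z, φ (inl2 R z) = evalPt R p.ofConv z := fun z => by
    induction z using TensorProduct.induction_on with
    | zero => simp
    | add a b ha hb => simp only [map_add, ha, hb]
    | tmul r a => simp [φ, inl2, evalPt]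
  have h3 : ∀ z, φ (inr2 R z) = evalPt R q.ofConv z := fun z => by
    induction z using TensorProduct.induction_on with
    | zero => simp
    | add a b ha hb => simp only [map_add, ha, hb]
    | tmul r a => simp [φ, inr2, evalPt]
  rw [← h1, hg, map_mul, h2, h3]

variable {N : Type u} [Field N] [Algebra K N] {M : Type} [AddCommGroup M] (s : Splitting K A M N)

/-- Points are determined by their values on characters. -/
theorem pt_ext {B : Type u} [CommRing B] [Algebra K B] {p q : A →ₐ[K] B}
    (h : ∀ m, evalPt N p (s.χ m) = evalPt N q (s.χ m)) : p = q := by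
  have hall : ∀ z, evalPt N p z = evalPt N q z := fun z => by
    obtain ⟨x, rfl⟩ := s.Ψ.surjective z
    induction x using MonoidAlgebra.induction_linear with
    | zero => simp
    | add a b ha hb => simp only [map_add, ha, hb]
    | single m r => rw [s.Ψ_single, map_smul, map_smul, h]
  refine AlgHom.ext fun a => ?_
  exact Algebra.TensorProduct.includeRight_injective (R := K) (A := N) (algebraMap K N).injective (by
    simpa [evalPt] using hall ((1 : N) ⊗ₜ[K] a))

/-- The value of a rational point on a character. -/
noncomputable def val (x : A →ₐ[K] K) (m : Multiplicative M) : N :=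
  Algebra.TensorProduct.rid K N N (evalPt N x (s.χ m))

theorem val_mul (x : A →ₐ[K] K) (a b : Multiplicative M) : val s x (a * b) = val s x a * val s x b := by
  simp [val, map_mul]

theorem val_one (x : A →ₐ[K] K) : val s x 1 = 1 := by simp [val]

theorem val_isUnit (x : A →ₐ[K] K) (m : Multiplicative M) : val s x m ≠ 0 :=
  (((s.χ_isUnit m).map (evalPt N x)).map (Algebra.TensorProduct.rid K N N)).ne_zero

theorem val_convMul (x y : WithConv (A →ₐ[K] K)) (m : Multiplicative M) :
    val s (x * y).ofConv m = val s x.ofConv m * val s y.ofConv m := by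
  rw [val, evalPt_mul x y (s.comul m), map_mul]
  rfl

theorem val_ext {x y : A →ₐ[K] K} (h : ∀ m, val s x m = val s y m) : x = y :=
  pt_ext s fun m => (Algebra.TensorProduct.rid K N N).injective (h m)

theorem val_convOne (m : Multiplicative M) : val s (1 : WithConv (A →ₐ[K] K)).ofConv m = 1 := by
  have h := val_convMul s 1 1 m
  rw [mul_one] at h
  exact (mul_eq_left₀ (val_isUnit s _ m)).1 h.symm

theorem val_pow (x : WithConv (A →ₐ[K] K)) (j : ℕ) (m : Multiplicative M) :
    val s (x ^ j).ofConv m = val s x.ofConv m ^ j := by
  induction j with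
  | zero => rw [pow_zero, pow_zero, val_convOne]
  | succ j ih => rw [pow_succ, pow_succ, val_convMul, ih]

theorem pow_eq_one_iff (x : WithConv (A →ₐ[K] K)) (j : ℕ) :
    x ^ j = 1 ↔ ∀ m, val s x.ofConv m ^ j = 1 := by
  refine ⟨fun h m => by rw [← val_pow, h, val_convOne], fun h => WithConv.ofConv_injective (val_ext s fun m => ?_)⟩
  rw [val_pow, h, val_convOne]

theorem exists_rho (σ : N ≃ₐ[K] N) (m : Multiplicative M) : ∃ m', s.χ m' = bcT σ.toAlgHom (s.χ m) :=
  s.mem_range_of_isGL ((s.isGL m).bc σ.toAlgHom)

/-- The action of an automorphism on the characters. -/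
noncomputable def rho (σ : N ≃ₐ[K] N) (m : Multiplicative M) : Multiplicative M := (exists_rho s σ m).choose

theorem χ_rho (σ : N ≃ₐ[K] N) (m : Multiplicative M) : s.χ (rho s σ m) = bcT σ.toAlgHom (s.χ m) :=
  (exists_rho s σ m).choose_spec

theorem rho_mul (σ : N ≃ₐ[K] N) (a b : Multiplicative M) : rho s σ (a * b) = rho s σ a * rho s σ b :=
  s.χ_injective (by rw [map_mul, χ_rho, χ_rho, χ_rho, map_mul, map_mul])

theorem rho_comp (σ τ : N ≃ₐ[K] N) (m : Multiplicative M) : rho s (σ * τ) m = rho s σ (rho s τ m) :=
  s.χ_injective (by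
    rw [χ_rho, χ_rho, χ_rho]
    induction s.χ m using TensorProduct.induction_on with
    | zero => simp
    | add a b ha hb => simp only [map_add, ha, hb]
    | tmul r a => simp [bcT, AlgEquiv.mul_apply])

theorem rho_id (m : Multiplicative M) : rho s 1 m = m :=
  s.χ_injective (by
    rw [χ_rho]
    induction s.χ m using TensorProduct.induction_on with
    | zero => simp
    | add a b ha hb => simp only [map_add, ha, hb]
    | tmul r a => simp [bcT])

theorem val_rho (x : A →ₐ[K] K) (σ : N ≃ₐ[K] N) (m : Multiplicative M) :
    val s x (rho s σ m) = σ (val s x m) := by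
  rw [val, val, χ_rho]
  induction s.χ m using TensorProduct.induction_on with
  | zero => simp
  | add a b ha hb => simp only [map_add, ha, hb]
  | tmul r a => simp [bcT, evalPt]

/-- The Galois action as additive automorphisms. -/
noncomputable def act : (N ≃ₐ[K] N) →* (M ≃ₗ[ℤ] M) :=
  MonoidHom.mk'
    (fun σ =>
      { toFun := fun m => (rho s σ (Multiplicative.ofAdd m)).toAdd
        invFun := fun m => (rho s σ⁻¹ (Multiplicative.ofAdd m)).toAdd
        left_inv := fun m => by
          change (rho s σ⁻¹ (rho s σ (Multiplicative.ofAdd m))).toAdd = m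
          rw [← rho_comp, inv_mul_cancel, rho_id]; rfl
        right_inv := fun m => by
          change (rho s σ (rho s σ⁻¹ (Multiplicative.ofAdd m))).toAdd = m
          rw [← rho_comp, mul_inv_cancel, rho_id]; rfl
        map_add' := fun a b => by rw [ofAdd_add, rho_mul]; rfl
        map_smul' := fun k a => map_zsmul (AddMonoidHom.mk' (fun m => (rho s σ (Multiplicative.ofAdd m)).toAdd) (fun a b => by rw [ofAdd_add, rho_mul]; rfl)) k a })
    (fun σ τ => LinearEquiv.ext fun m => congrArg Multiplicative.toAdd (rho_comp s σ τ (Multiplicative.ofAdd m)))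

theorem act_apply (σ : N ≃ₐ[K] N) (m : M) : act s σ m = (rho s σ (Multiplicative.ofAdd m)).toAdd := rfl

/-- A rational homomorphism from an invariant cocharacter. -/
theorem exists_cochar [FiniteDimensional K N] [IsGalois K N] (lam : M →+ ℤ)
    (hlam : ∀ σ m, lam (act s σ m) = lam m) :
    ∃ φ : A →ₐ[K] MonoidAlgebra K (Multiplicative ℤ), ∀ a,
      MonoidAlgebra.mapAlgHom (Multiplicative ℤ) (Algebra.ofId K N) (φ a) =
        MonoidAlgebra.mapDomainAlgHom K N (AddMonoidHom.toMultiplicative lam) (s.coord a) := by
  classical
  let ι := MonoidAlgebra.mapAlgHom (Multiplicative ℤ) (Algebra.ofId K N)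
  have hι : Function.Injective ι := fun a b h => MonoidAlgebra.ext (Finsupp.ext fun m =>
    (algebraMap K N).injective (by simpa [ι] using congrArg (fun y => y.coeff m) h))
  have key : ∀ (σ : N ≃ₐ[K] N) (x : MonoidAlgebra N (Multiplicative M)),
      MonoidAlgebra.mapDomainAlgHom K N (AddMonoidHom.toMultiplicative lam) (s.Ψ.symm (bcT σ.toAlgHom (s.Ψ x))) =
        MonoidAlgebra.mapAlgHom (Multiplicative ℤ) σ.toAlgHom
          (MonoidAlgebra.mapDomainAlgHom K N (AddMonoidHom.toMultiplicative lam) x) := by
    intro σ x
    induction x using MonoidAlgebra.induction_linear with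
    | zero => simp
    | add a b ha hb => simp only [map_add, ha, hb]
    | single m r =>
      rw [s.Ψ_single, Algebra.smul_def, map_mul, ← χ_rho s σ m, map_mul, s.Ψ_symm_χ,
        show bcT σ.toAlgHom (algebraMap N (N ⊗[K] A) r) = algebraMap N (N ⊗[K] A) (σ r) from rfl,
        AlgEquiv.commutes, MonoidAlgebra.coe_algebraMap]
      simp only [Function.comp_apply, Algebra.algebraMap_self, RingHom.id_apply, MonoidAlgebra.single_mul_single,
        one_mul, mul_one]
      have : AddMonoidHom.toMultiplicative lam (rho s σ m) = AddMonoidHom.toMultiplicative lam m :=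
        congrArg Multiplicative.ofAdd (hlam σ m.toAdd)
      simp only [MonoidAlgebra.mapDomainAlgHom_apply, MonoidAlgebra.mapDomain_single]
      simp
      exact congrArg (fun z => MonoidAlgebra.single z (σ r)) this
  let θ : A →ₐ[K] MonoidAlgebra N (Multiplicative ℤ) :=
    ((MonoidAlgebra.mapDomainAlgHom K N (AddMonoidHom.toMultiplicative lam))).comp s.coord
  have hfix : ∀ a m, (θ a).coeff m ∈ Set.range (algebraMap K N) := fun a m => by
    refine (IsGalois.mem_range_algebraMap_iff_fixed _).2 fun σ => ?_
    have h := key σ (s.coord a)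
    rw [s.coord_apply, AlgEquiv.apply_symm_apply, bcT_tmul, map_one, ← s.coord_apply] at h
    have := congrArg (fun y => y.coeff m) h
    simpa [θ] using this.symm
  have hrange : ∀ a, ∃ y, ι y = θ a := fun a => by
    refine ⟨.ofCoeff (Finsupp.onFinset (θ a).coeff.support (fun m => (hfix a m).choose) fun m hm => ?_), ?_⟩
    · rw [Finsupp.mem_support_iff]
      intro h
      refine hm ((algebraMap K N).injective ?_)
      rw [(hfix a m).choose_spec, h, map_zero]
    · refine MonoidAlgebra.ext (Finsupp.ext fun m => ?_)
      simpa [ι] using (hfix a m).choose_spec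
  choose y hy using hrange
  exact ⟨{ toFun := y
           map_one' := hι (by rw [hy, map_one, map_one])
           map_mul' := fun a b => hι (by rw [hy, map_mul, map_mul, hy, hy])
           map_zero' := hι (by rw [hy, map_zero, map_zero])
           map_add' := fun a b => hι (by rw [hy, map_add, map_add, hy, hy])
           commutes' := fun r => hι (by rw [hy, AlgHom.commutes, AlgHom.commutes]) }, hy⟩

end Groth.Agent.Lib.TorusDescent
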