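import Groth.Agent.Lib.TorusDescent.Main
import Mathlib.LinearAlgebra.Matrix.Trace

/-!
Finite order elements of `SL₂(ℤ)` and anisotropic tori of rank two.
-/

set_option autoImplicit false
universe u
open scoped TensorProduct
open Groth.Agent.H87
open Matrix

namespace Groth.Agent.Lib.TorusDescent

theorem sum_pow_eq_zero (h : Matrix (Fin 2) (Fin 2) ℤ) (hdet : h.det = 1) (h1 : h ≠ 1) (hfin : IsOfFinOrder h) :
    ∃ k, 0 < k ∧ k ≤ 6 ∧ ∑ i ∈ Finset.range k, h ^ i = 0 := by
  have hCH : h * h = h.trace • h - 1 := by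
    rw [Matrix.det_fin_two] at hdet
    ext i j
    simp only [Matrix.sub_apply, Matrix.smul_apply, Matrix.mul_apply, Fin.sum_univ_two, Matrix.trace_fin_two,
      smul_eq_mul, Matrix.one_apply]
    fin_cases i <;> fin_cases j <;> simp <;> linarith
  obtain ⟨d, hd, hd1⟩ := isOfFinOrder_iff_pow_eq_one.1 hfin
  set t := h.trace
  have hrec : ∀ j, (h ^ (j + 2)).trace = t * (h ^ (j + 1)).trace - (h ^ j).trace := fun j => by
    rw [pow_add, pow_two, hCH, mul_sub, mul_one, mul_smul_comm, ← pow_succ, Matrix.trace_sub, Matrix.trace_smul,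
      smul_eq_mul]
  have hlow : -2 ≤ t ∧ t ≤ 2 := by
    by_contra hcon
    have ht : 3 ≤ |t| := by
      rcases le_or_gt (-2) t with h2 | h2
      · have : 2 < t := not_le.1 fun h3 => hcon ⟨h2, h3⟩
        rw [abs_of_pos (by omega)]; omega
      · rw [abs_of_neg (by omega)]; omega
    have hinc : ∀ j, 2 ≤ |(h ^ j).trace| ∧ |(h ^ j).trace| < |(h ^ (j + 1)).trace| := by
      intro j
      induction j with
      | zero => simp [Matrix.trace_one, t] at ht ⊢; omega
      | succ j ih =>
        refine ⟨ih.1.trans ih.2.le, ?_⟩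
        rw [show j + 1 + 1 = j + 2 from rfl, hrec]
        have h1 := abs_sub_abs_le_abs_sub (t * (h ^ (j + 1)).trace) ((h ^ j).trace)
        rw [abs_mul] at h1
        nlinarith [ih.1, ih.2]
    obtain ⟨e, rfl⟩ : ∃ e, d = e + 1 := ⟨d - 1, by omega⟩
    have h2 := hinc e
    rw [hd1] at h2
    simp [Matrix.trace_one] at h2
    omega
  have hunip : ∀ g : Matrix (Fin 2) (Fin 2) ℤ, (g - 1) * (g - 1) = 0 → (∃ d, 0 < d ∧ g ^ d = 1) → g = 1 := by
    intro g hg ⟨d, hd, hgd⟩
    have : ∀ j : ℕ, g ^ j = 1 + (j : ℤ) • (g - 1) := by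
      intro j
      induction j with
      | zero => simp
      | succ j ih =>
        rw [pow_succ, ih, add_mul, one_mul, smul_mul_assoc,
          show (g - 1) * g = (g - 1) * (g - 1) + (g - 1) by rw [mul_sub (g - 1) g 1, mul_one]; abel, hg, zero_add]
        push_cast
        rw [add_smul, one_smul]
        abel
    have h0 := this d
    rw [hgd, eq_comm, add_eq_left] at h0
    exact sub_eq_zero.1 ((smul_eq_zero.1 h0).resolve_left (by omega))
  obtain ⟨hl, hu⟩ := hlow
  interval_cases t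
  · refine ⟨2, by norm_num, by norm_num, ?_⟩
    have h2 : -h = 1 := hunip (-h) (by
      rw [show (-h - 1) * (-h - 1) = h * h + (2 : ℤ) • h + 1 by noncomm_ring, hCH]; module)
      ⟨2 * d, by omega, by rw [pow_mul, neg_sq, ← pow_mul, mul_comm, pow_mul, hd1, one_pow]⟩
    simp [Finset.sum_range_succ, ← h2]
  · refine ⟨3, by norm_num, by norm_num, ?_⟩
    simp only [Finset.sum_range_succ, Finset.sum_range_zero, pow_zero, pow_one, pow_two, hCH]
    module
  · refine ⟨4, by norm_num, by norm_num, ?_⟩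
    simp only [Finset.sum_range_succ, Finset.sum_range_zero, pow_succ, pow_zero, one_mul, hCH, sub_mul, smul_mul_assoc]
    module
  · refine ⟨6, by norm_num, le_rfl, ?_⟩
    simp only [Finset.sum_range_succ, Finset.sum_range_zero, pow_succ, pow_zero, one_mul, hCH, sub_mul, smul_mul_assoc]
    module
  · exact absurd (hunip h (by
      rw [show (h - 1) * (h - 1) = h * h - (2 : ℤ) • h + 1 by noncomm_ring, hCH]; module) ⟨d, hd, hd1⟩) h1

variable {K : Type u} [Field K] {A : Type u} [CommRing A] [Bialgebra K A] {n : ℕ}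
variable {N : Type u} [Field N] [Algebra K N]

theorem act_eq_mulVec (s : Splitting K A (Fin n → ℤ) N) (σ : N ≃ₐ[K] N) (v : Fin n → ℤ) :
    act s σ v = (actGL s σ : Matrix (Fin n) (Fin n) ℤ) *ᵥ v := by
  let e := Matrix.GeneralLinearGroup.toLin.trans
    (LinearMap.GeneralLinearGroup.generalLinearEquiv ℤ (Fin n → ℤ))
  have h : e (actGL s σ) = act s σ := e.apply_symm_apply _
  rw [← h]
  simp [e]

/-- A rank two torus without invariant cocharacters has points killed by some `k ≤ 6`. -/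
theorem exists_exponent_le_six [FiniteDimensional K N] (s : Splitting K A (Fin 2 → ℤ) N)
    (hsum : ∀ m : Fin 2 → ℤ, ∃ (ι : Type u) (_ : Fintype ι) (σ : ι → (N ≃ₐ[K] N)),
      Fintype.card ι = Nat.card (actGL s).range ∧ ∑ i, act s (σ i) m = 0) :
    ∃ k, 0 < k ∧ k ≤ 6 ∧ ∀ x : WithConv (A →ₐ[K] K),
      (∀ m, val s x.ofConv m ∈ Set.range (algebraMap K N)) → x ^ k = 1 := by
  classical
  obtain ⟨σ, hdet, h1⟩ : ∃ σ : N ≃ₐ[K] N,
      (actGL s σ : Matrix (Fin 2) (Fin 2) ℤ).det = 1 ∧ (actGL s σ : Matrix (Fin 2) (Fin 2) ℤ) ≠ 1 := by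
    by_contra hcon
    push Not at hcon
    have h2 : ∀ σ, (actGL s σ : Matrix (Fin 2) (Fin 2) ℤ).det = 1 → actGL s σ = 1 := fun σ h =>
      Units.ext (hcon σ h)
    have hu : ∀ σ, (actGL s σ : Matrix (Fin 2) (Fin 2) ℤ).det = 1 ∨
        (actGL s σ : Matrix (Fin 2) (Fin 2) ℤ).det = -1 := fun σ =>
      Int.isUnit_iff.1 ((Matrix.isUnit_iff_isUnit_det _).1 (actGL s σ).isUnit)
    have heq : ∀ σ τ, actGL s σ ≠ 1 → actGL s τ ≠ 1 → actGL s σ = actGL s τ := by
      intro σ τ hσ hτ
      have hd := ((hu σ).resolve_left fun h => hσ (h2 σ h))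
      have he := ((hu τ).resolve_left fun h => hτ (h2 τ h))
      have key : ∀ a, (actGL s a : Matrix (Fin 2) (Fin 2) ℤ).det = -1 → actGL s a * actGL s τ = 1 := fun a ha => by
        rw [← map_mul]
        refine h2 _ ?_
        rw [map_mul, Units.val_mul, Matrix.det_mul, ha, he]
        norm_num
      exact mul_right_cancel ((key σ hd).trans (key τ he).symm)
    have hfix : ∀ v, (∀ τ, act s τ v = v) → v = 0 := fun v hv => by
      obtain ⟨ι, _, τ, hcard, h0⟩ := hsum v
      rw [Finset.sum_congr rfl fun i _ => hv (τ i), Finset.sum_const, Finset.card_univ, hcard] at h0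
      exact (smul_eq_zero.1 h0).resolve_left Nat.card_pos.ne'
    by_cases hall : ∀ σ, actGL s σ = 1
    · exact one_ne_zero (α := ℤ) (by
        simpa using congrFun (hfix (Pi.single 0 1) fun τ => by
          rw [act_eq_mulVec, hall, Units.val_one, Matrix.one_mulVec]) 0)
    push Not at hall
    obtain ⟨σ, hσ⟩ := hall
    refine hσ (h2 σ ?_)
    have hsq : (actGL s σ : Matrix (Fin 2) (Fin 2) ℤ) * (actGL s σ : Matrix (Fin 2) (Fin 2) ℤ) = 1 := by
      have := h2 (σ * σ) (by
        rw [map_mul, Units.val_mul, Matrix.det_mul, (hu σ).resolve_left fun h => hσ (h2 σ h)]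
        norm_num)
      rw [map_mul] at this
      exact congrArg Units.val this
    have hneg : (actGL s σ : Matrix (Fin 2) (Fin 2) ℤ) = -1 := by
      refine Matrix.mulVec_injective (funext fun m => ?_)
      have h0 := hfix (m + (actGL s σ : Matrix (Fin 2) (Fin 2) ℤ) *ᵥ m) fun τ => by
        rw [act_eq_mulVec]
        by_cases hτ : actGL s τ = 1
        · simp [hτ]
        · rw [heq τ σ hτ hσ, Matrix.mulVec_add, Matrix.mulVec_mulVec, hsq, Matrix.one_mulVec, add_comm]
      rw [add_comm] at h0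
      rw [eq_neg_of_add_eq_zero_left h0, Matrix.neg_mulVec, Matrix.one_mulVec]
    rw [hneg, Matrix.det_fin_two]
    simp
  have hfin : IsOfFinOrder (actGL s σ : Matrix (Fin 2) (Fin 2) ℤ) :=
    (Units.coeHom _).isOfFinOrder ((actGL s).isOfFinOrder (isOfFinOrder_of_finite σ))
  obtain ⟨k, hk, hk6, h0⟩ := sum_pow_eq_zero _ hdet h1 hfin
  refine ⟨k, hk, hk6, fun x hval => (pow_eq_one_iff s x k).2 fun m => ?_⟩
  have hm : ∑ i ∈ Finset.range k, act s (σ ^ i) m.toAdd = 0 := by
    rw [Finset.sum_congr rfl fun i _ => act_eq_mulVec s (σ ^ i) m.toAdd, ← Matrix.sum_mulVec]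
    simp only [map_pow, Units.val_pow_eq_pow_val, h0, Matrix.zero_mulVec]
  have h2 : valHom s x.ofConv (∏ i ∈ Finset.range k, rho s (σ ^ i) m) = 1 := by
    have : (∏ i ∈ Finset.range k, rho s (σ ^ i) m) = 1 := by
      rw [← Multiplicative.toAdd.injective.eq_iff, toAdd_prod, toAdd_one]
      exact hm
    rw [this, map_one]
  rw [map_prod, Finset.prod_congr rfl (g := fun _ => val s x.ofConv m), Finset.prod_const, Finset.card_range] at h2
  · exact h2
  · intro i _
    change val s x.ofConv (rho s (σ ^ i) m) = _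
    rw [val_rho]
    obtain ⟨c, hc⟩ := hval m
    rw [← hc, AlgEquiv.commutes]

end Groth.Agent.Lib.TorusDescent
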