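import Groth.Agent.Lib.TorusDescent.Main
import Groth.Agent.Lib.Tori.Basic
import Groth.Agent.Lib.RedPts.Gm
import Groth.Agent.H87.HomDS
import Groth.Agent.H1.Hopf

/-!
Tori over a field: splittings from split base changes and homomorphisms from `𝔾_m`.
-/

set_option autoImplicit false
universe u

open CategoryTheory MonoidalCategory CartesianMonoidalCategory MonObj GrpObj AlgebraicGeometry
open WithConv
open scoped TensorProduct
open Groth.Agent.Lib.RedPts Groth.Agent.Lib.Tori.BaseChange

attribute [local instance] Points.baseAlgebra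

namespace Groth.Agent.Lib.TorusDescent

variable {K : Type u} [Field K]

/-- Precomposition with an isomorphism on points. -/
noncomputable def preEquiv {S : Scheme.{u}} {X X' : Over S} (i : X' ≅ X) (T : Over S) [GrpObj T] :
    (X ⟶ T) ≃* (X' ⟶ T) where
  toFun g := i.hom ≫ g
  invFun g := i.inv ≫ g
  left_inv g := i.inv_hom_id_assoc g
  right_inv g := i.hom_inv_id_assoc g
  map_mul' g h := MonObj.comp_mul _ _ _

/-- Postcomposition with an isomorphism of groups on points. -/
noncomputable def postEquiv {S : Scheme.{u}} (X : Over S) {T T' : Over S} [GrpObj T] [GrpObj T'] (i : T ≅ T')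
    [IsMonHom i.hom] : (X ⟶ T) ≃* (X ⟶ T') where
  toFun g := g ≫ i.hom
  invFun g := g ≫ i.inv
  left_inv g := by simp
  right_inv g := by simp
  map_mul' g h := MonObj.mul_comp _ _ _

section pts

variable {A : Type u} [CommRing A] [HopfAlgebra K A] {T : Over (Spec (CommRingCat.of K))} [GrpObj T]
  (e : T ≅ (Spec (CommRingCat.of A)).asOver (Spec (CommRingCat.of K))) [IsMonHom e.hom]

/-- Affine points. -/
noncomputable def ptsAff (B : Type u) [CommRing B] [Algebra K B] :
    ((Spec (CommRingCat.of B)).asOver (Spec (CommRingCat.of K)) ⟶ T) ≃* WithConv (A →ₐ[K] B) :=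
  (postEquiv _ e).trans Spec.mapMulEquiv.symm

theorem ptsAff_naturality {B B' : Type u} [CommRing B] [Algebra K B] [CommRing B'] [Algebra K B'] (g : B →ₐ[K] B')
    (p : WithConv (A →ₐ[K] B)) :
    (ptsAff e B').symm (toConv (g.comp p.ofConv)) =
      (Spec.map (CommRingCat.ofHom g.toRingHom)).asOver (Spec (CommRingCat.of K)) ≫ (ptsAff e B).symm p := by
  refine (cancel_mono e.hom).1 ?_
  simp only [ptsAff, postEquiv, MulEquiv.symm_trans_apply, MulEquiv.symm_symm, MulEquiv.coe_mk, Equiv.coe_fn_mk,
    MulEquiv.symm_mk, Equiv.coe_fn_symm_mk, Category.assoc, Iso.inv_hom_id, Category.comp_id]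
  ext1
  change Spec.map (CommRingCat.ofHom (g.comp p.ofConv).toRingHom) =
    Spec.map (CommRingCat.ofHom g.toRingHom) ≫ Spec.map (CommRingCat.ofHom p.ofConv.toRingHom)
  rw [← Spec.map_comp]
  rfl

/-- Points with values in an arbitrary scheme. -/
noncomputable def pts (W : Over (Spec (CommRingCat.of K))) :
    (W ⟶ T) ≃* WithConv (A →ₐ[K] Γ(W.left, ⊤)) where
  toFun g := toConv (Points.algHomOf (g ≫ e.hom))
  invFun p := Points.pointOf p.ofConv ≫ e.inv
  left_inv g := by simp
  right_inv p := by simp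
  map_mul' g h := by
    refine WithConv.ofConv_injective (AlgHom.ext fun a => ?_)
    rw [AlgHom.convMul_apply, MonObj.mul_comp g h e.hom]
    exact Points.algHomOf_mul _ _ a

/-- Pullback of functions. -/
noncomputable def pull {W W' : Over (Spec (CommRingCat.of K))} (h : W' ⟶ W) :
    Γ(W.left, ⊤) →ₐ[K] Γ(W'.left, ⊤) :=
  { h.left.appTop.hom with
    commutes' := fun r => by
      change h.left.appTop (Points.baseHom W r) = Points.baseHom W' r
      simp only [Points.baseHom]
      rw [← Over.w h]
      rfl }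

theorem pts_comp {W W' : Over (Spec (CommRingCat.of K))} (h : W' ⟶ W) (g : W ⟶ T) :
    (pts e W' (h ≫ g)).ofConv = (pull h).comp (pts e W g).ofConv := by
  refine AlgHom.ext fun a => ?_
  change Points.ringHomOf ((h ≫ g) ≫ e.hom).left a = h.left.appTop (Points.ringHomOf (g ≫ e.hom).left a)
  rw [Category.assoc, Over.comp_left]
  exact Points.ringHomOf_comp _ _ _

end pts

section split

variable {A : Type u} [CommRing A] [Bialgebra K A] {M : Type} [AddCommGroup M] {L : Type u} [Field L] [Algebra K L]

/-- A splitting from a natural identification of the points. -/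
theorem nonempty_splitting
    (Θ : ∀ (B : Type u) [CommRing B] [Algebra K B] [Algebra L B] [IsScalarTower K L B],
      WithConv (A →ₐ[K] B) ≃* (Multiplicative M →* B))
    (hΘ : ∀ (B B' : Type u) [CommRing B] [Algebra K B] [Algebra L B] [IsScalarTower K L B]
      [CommRing B'] [Algebra K B'] [Algebra L B'] [IsScalarTower K L B'] (g : B →ₐ[L] B')
      (p : WithConv (A →ₐ[K] B)) (m : Multiplicative M),
      Θ B' (toConv ((g.restrictScalars K).comp p.ofConv)) m = g (Θ B p m)) :
    Nonempty (Splitting K A M L) := by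
  let incl : A →ₐ[K] L ⊗[K] A := Algebra.TensorProduct.includeRight
  let χ := Θ (L ⊗[K] A) (toConv incl)
  let c := (Θ (MonoidAlgebra L (Multiplicative M))).symm (MonoidAlgebra.of L (Multiplicative M))
  let Φ : L ⊗[K] A →ₐ[L] MonoidAlgebra L (Multiplicative M) :=
    Algebra.TensorProduct.lift (Algebra.ofId L _) c.ofConv (fun _ _ => Commute.all _ _)
  let Ψ := MonoidAlgebra.lift L (L ⊗[K] A) (Multiplicative M) χ
  have hΦ : (Φ.restrictScalars K).comp incl = c.ofConv := Algebra.TensorProduct.lift_comp_includeRight _ _ _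
  have h1 : Φ.comp Ψ = AlgHom.id L _ := by
    refine MonoidAlgebra.algHom_ext (fun m => ?_) ?_
    · change Φ (Ψ (MonoidAlgebra.single m 1)) = MonoidAlgebra.single m 1
      simp only [Ψ, MonoidAlgebra.lift_single, one_smul, χ]
      rw [← hΘ _ _ Φ (toConv incl) m, WithConv.ofConv_toConv, hΦ, WithConv.toConv_ofConv, MulEquiv.apply_symm_apply]
      rfl
    · ext
  have h2 : Ψ.comp Φ = AlgHom.id L _ := by
    refine Algebra.TensorProduct.ext ?_ ?_
    · ext
    · have : (Ψ.restrictScalars K).comp c.ofConv = incl := by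
        apply WithConv.toConv_injective
        apply (Θ (L ⊗[K] A)).injective
        refine MonoidHom.ext fun m => ?_
        rw [hΘ _ _ Ψ c m, MulEquiv.apply_symm_apply]
        simp [Ψ, χ]
      refine AlgHom.ext fun a => ?_
      change Ψ (Φ (incl a)) = incl a
      rw [show Φ (incl a) = c.ofConv a from DFunLike.congr_fun hΦ a]
      exact DFunLike.congr_fun this a
  refine ⟨⟨χ, fun m => ?_, ⟨fun x y h => ?_, fun y => ⟨Φ y, DFunLike.congr_fun h2 y⟩⟩⟩⟩
  · simp only [χ]
    rw [← hΘ _ _ (comulR (K := K) (A := A) L) (toConv incl) m, ← hΘ _ _ (inl2 (K := K) (A := A) L) (toConv incl) m,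
      ← hΘ _ _ (inr2 (K := K) (A := A) L) (toConv incl) m, ← MonoidHom.mul_apply, ← map_mul]
    congr 2
    refine WithConv.ofConv_injective (AlgHom.ext fun a => ?_)
    rw [AlgHom.convMul_apply]
    have hl : Algebra.TensorProduct.lift (((inl2 (K := K) (A := A) L).restrictScalars K).comp incl)
        (((inr2 (K := K) (A := A) L).restrictScalars K).comp incl) (fun _ _ => Commute.all _ _) =
        (Algebra.TensorProduct.includeRight : A ⊗[K] A →ₐ[K] L ⊗[K] (A ⊗[K] A)) := by
      refine Algebra.TensorProduct.ext' fun a b => ?_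
      simp [incl, inl2, inr2]
    exact (DFunLike.congr_fun hl (Coalgebra.comul a)).symm
  · have := congrArg Φ h
    change Φ.comp Ψ x = Φ.comp Ψ y at this
    rwa [h1] at this

end split

section torus

variable {A : Type u} [CommRing A] [HopfAlgebra K A] {T : Over (Spec (CommRingCat.of K))} [GrpObj T]
  (e : T ≅ (Spec (CommRingCat.of A)).asOver (Spec (CommRingCat.of K))) [IsMonHom e.hom]
  {M : Type} [AddCommGroup M] {L : Type u} [Field L] [Algebra K L]

/-- A `B`-point over `L` seen over `K`. -/
noncomputable def downIso (B : Type u) [CommRing B] [Algebra K B] [Algebra L B] [IsScalarTower K L B] :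
    (Spec (CommRingCat.of B)).asOver (Spec (CommRingCat.of K)) ≅
      (Over.map (Spec.map (CommRingCat.ofHom (algebraMap K L)))).obj
        ((Spec (CommRingCat.of B)).asOver (Spec (CommRingCat.of L))) :=
  Over.isoMk (Iso.refl _) (by
    change 𝟙 _ ≫ (Spec.map (CommRingCat.ofHom (algebraMap L B)) ≫ Spec.map (CommRingCat.ofHom (algebraMap K L))) =
      Spec.map (CommRingCat.ofHom (algebraMap K B))
    rw [Category.id_comp, ← Spec.map_comp, ← CommRingCat.ofHom_comp, ← IsScalarTower.algebraMap_eq])

include e in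
theorem splitting_of_isSplit
    (h : Red.IsSplitTorusWith M (Red.bc (Spec.map (CommRingCat.ofHom (algebraMap K L))) T)) :
    Nonempty (Splitting K A M L) := by
  obtain ⟨ε⟩ := h
  let f := Spec.map (CommRingCat.ofHom (algebraMap K L))
  let dsEqv : ∀ (B : Type u) [CommRing B] [Algebra L B],
      ((Spec (CommRingCat.of B)).asOver (Spec (CommRingCat.of L)) ⟶ Red.DS (Spec (CommRingCat.of L)) M) ≃*
        (Multiplicative M →* B) := fun B _ _ =>
    { toFun := fun x =>
        { toFun := fun m => (Scheme.ΓSpecIso (CommRingCat.of B)).hom (Gm.dsFn x m.toAdd)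
          map_one' := by rw [toAdd_one, Gm.dsFn_zero]; exact map_one _
          map_mul' := fun a b => by rw [toAdd_mul, Gm.dsFn_add]; exact map_mul _ _ _ }
      invFun := fun χ => Gm.dsPt ((Scheme.ΓSpecIso (CommRingCat.of B)).inv.hom.toMonoidHom.comp χ)
      left_inv := fun x => Gm.dsFn_ext fun m => by
        rw [Gm.dsFn_dsPt]
        exact (Scheme.ΓSpecIso (CommRingCat.of B)).hom_inv_id_apply (Gm.dsFn x m)
      right_inv := fun χ => MonoidHom.ext fun m => by
        change (Scheme.ΓSpecIso (CommRingCat.of B)).hom (Gm.dsFn (S := Spec (CommRingCat.of L))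
          (X := (Spec (CommRingCat.of B)).asOver (Spec (CommRingCat.of L)))
          (Gm.dsPt ((Scheme.ΓSpecIso (CommRingCat.of B)).inv.hom.toMonoidHom.comp χ)) m.toAdd) = χ m
        rw [Gm.dsFn_dsPt]
        exact (Scheme.ΓSpecIso (CommRingCat.of B)).inv_hom_id_apply (χ m)
      map_mul' := fun x y => MonoidHom.ext fun m => by
        change (Scheme.ΓSpecIso (CommRingCat.of B)).hom (Gm.dsFn (x * y) m.toAdd) = _
        rw [Gm.dsFn_mul]
        exact map_mul _ _ _ }
  let Θ : ∀ (B : Type u) [CommRing B] [Algebra K B] [Algebra L B] [IsScalarTower K L B],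
      WithConv (A →ₐ[K] B) ≃* (Multiplicative M →* B) := fun B _ _ _ _ =>
    ((ptsAff e B).symm.trans ((preEquiv (downIso (L := L) B) T).symm.trans
      ((BC.downMulEquiv f _ T).symm.trans (postEquiv _ (overIso ε))))).trans (dsEqv B)
  refine nonempty_splitting Θ ?_
  intro B B' _ _ _ _ _ _ _ _ g p m
  let gL := (Spec.map (CommRingCat.ofHom g.toRingHom)).asOver (Spec (CommRingCat.of L))
  let y : ∀ (C : Type u) [CommRing C] [Algebra K C] [Algebra L C] [IsScalarTower K L C],
      WithConv (A →ₐ[K] C) → ((Spec (CommRingCat.of C)).asOver (Spec (CommRingCat.of L)) ⟶ Red.bc f T) :=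
    fun C _ _ _ _ q => BC.up f ((downIso (L := L) C).inv ≫ (ptsAff e C).symm q)
  have hy : y B' (toConv ((g.restrictScalars K).comp p.ofConv)) = gL ≫ y B p := by
    apply BC.down_injective
    rw [BC.down_comp]
    simp only [y, BC.down_up]
    rw [ptsAff_naturality e (g.restrictScalars K) p, ← Category.assoc, ← Category.assoc]
    congr 1
  change (Scheme.ΓSpecIso (CommRingCat.of B')).hom
      (Gm.dsFn (y B' (toConv ((g.restrictScalars K).comp p.ofConv)) ≫ (overIso ε).hom) m.toAdd) =
    g ((Scheme.ΓSpecIso (CommRingCat.of B)).hom (Gm.dsFn (y B p ≫ (overIso ε).hom) m.toAdd))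
  rw [hy, Category.assoc, Gm.dsFn_comp]
  exact congr($(Scheme.ΓSpecIso_naturality (CommRingCat.ofHom g.toRingHom)) _)

include e in
/-- A homomorphism of algebras compatible with multiplication gives a subgroup `𝔾_m`. -/
theorem exists_mono_Gm (φ : A →ₐ[K] MonoidAlgebra K (Multiplicative ℤ)) (hφ : Function.Surjective φ)
    (hmul : ∀ (Γ : Type u) [CommRing Γ] [Algebra K Γ] (u v : Γˣ),
      (toConv (unitPt φ u) * toConv (unitPt φ v)) = toConv (unitPt φ (u * v))) :
    ∃ i : Red.Gm (Spec (CommRingCat.of K)) ⟶ T, IsMonHom i ∧ Mono i := by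
  let G := Red.Gm (Spec (CommRingCat.of K))
  let u₀ : Γ(G.left, ⊤)ˣ := (Gm.isUnit_gmFn (𝟙 G)).unit
  let i : G ⟶ T := (pts e G).symm (toConv (unitPt φ u₀))
  have hi : ∀ (X : Over (Spec (CommRingCat.of K))) (a : X ⟶ G),
      pts e X (a ≫ i) = toConv (unitPt φ (Gm.isUnit_gmFn a).unit) := by
    intro X a
    refine WithConv.ofConv_injective ?_
    rw [pts_comp, MulEquiv.apply_symm_apply, WithConv.ofConv_toConv, WithConv.ofConv_toConv]
    have hu : ((Gm.isUnit_gmFn a).unit : Γ(X.left, ⊤)ˣ) = Units.map (pull a).toMonoidHom u₀ := Units.ext (by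
      change Red.gmFn a = a.left.appTop (Red.gmFn (𝟙 G))
      rw [← Gm.gmFn_comp, Category.comp_id])
    rw [hu, unitPt, unitPt, ← AlgHom.comp_assoc]
    congr 1
    refine MonoidAlgebra.algHom_ext (fun k => ?_) ?_
    · simp only [AlgHom.comp_apply, MonoidAlgebra.lift_single, one_smul, MonoidHom.comp_apply, Units.coeHom_apply,
        zpowersHom_apply, ← map_zpow]
      rfl
    · ext
  refine ⟨i, Groth.Agent.H87.HomDS.isMonHom_of_points i fun X a b => ?_, ⟨fun {X} a b hab => ?_⟩⟩
  · apply (pts e X).injective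
    rw [map_mul, hi, hi, hi, hmul]
    congr 2
    exact Units.ext (Gm.gmFn_mul a b)
  · have h := congrArg (fun q => (pts e X q).ofConv) hab
    simp only [hi, WithConv.ofConv_toConv] at h
    obtain ⟨x, hx⟩ := hφ (MonoidAlgebra.single (Multiplicative.ofAdd (1 : ℤ)) 1)
    have h' := DFunLike.congr_fun h x
    simp only [unitPt, AlgHom.comp_apply, hx, MonoidAlgebra.lift_single, one_smul] at h'
    refine Gm.gmFn_injective ?_
    simpa using h'

omit [IsMonHom e.hom] in
theorem isTorus_of_split {n : ℕ} {L : Type u} [Field L] [Algebra K L]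
    (h : Red.IsSplitTorusWith (Fin n → ℤ) (Red.bc (Spec.map (CommRingCat.ofHom (algebraMap K L))) T)) :
    Red.IsTorus T := by
  let f := Spec.map (CommRingCat.ofHom (algebraMap K L))
  have hs : Surjective f := ⟨fun x => ⟨IsLocalRing.closedPoint L, Subsingleton.elim (α := PrimeSpectrum K) _ _⟩⟩
  have hf : Flat f := by
    rw [HasRingHomProperty.Spec_iff (P := @Flat)]
    exact RingHom.flat_algebraMap_iff.2 inferInstance
  exact ⟨_, f, hf, hs, Tori.Basic.isQCCover_of_qc f, fun s' => ⟨⊤, trivial, n,
    Tori.Basic.isSplit_congr (bcComp _ f T) (Tori.Basic.isSplit_bc h _)⟩⟩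

/-- Data of a torus split by some extension. -/
theorem exists_splitting {n : ℕ} {L : Type u} [Field L] [Algebra K L]
    (h : Red.IsSplitTorusWith (Fin n → ℤ) (Red.bc (Spec.map (CommRingCat.ofHom (algebraMap K L))) T)) :
    ∃ (A : Type u) (_ : CommRing A) (_ : HopfAlgebra K A)
      (e : T ≅ (Spec (CommRingCat.of A)).asOver (Spec (CommRingCat.of K))) (_ : IsMonHom e.hom)
      (N : Type u) (_ : Field N) (_ : Algebra K N), FiniteDimensional K N ∧ IsGalois K N ∧
      Nonempty (Splitting K A (Fin n → ℤ) N) := by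
  have htor := isTorus_of_split h
  have := Tori.Basic.isAffineHom_of_isTorus htor
  have := Tori.Basic.smooth_of_isTorus htor
  have : IsAffine T.left := isAffine_of_isAffineHom T.hom
  obtain ⟨A, _, _, e, he⟩ := Groth.Agent.H1.Hopf.exists_iso T
  have hlft : LocallyOfFiniteType ((Spec (CommRingCat.of A)).asOver (Spec (CommRingCat.of K))).hom := by
    have : IsIso e.inv.left := inferInstanceAs (IsIso ((Over.forget _).map e.inv))
    rw [← Over.w e.inv]
    infer_instance
  have := Groth.Agent.H1.Hopf.finiteType_of_locallyOfFiniteType hlft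
  obtain ⟨s⟩ := splitting_of_isSplit e h
  exact ⟨A, _, _, e, he, exists_galois s⟩

/-- Rational points. -/
noncomputable def ratPts : (𝟙_ (Over (Spec (CommRingCat.of K))) ⟶ T) ≃* WithConv (A →ₐ[K] K) :=
  (preEquiv (Over.isoMk (Iso.refl _) (by
    change 𝟙 _ ≫ 𝟙 _ = Spec.map (CommRingCat.ofHom (algebraMap K K))
    rw [Category.id_comp, Algebra.algebraMap_self]
    exact (Spec.map_id _).symm) :
      (Spec (CommRingCat.of K)).asOver (Spec (CommRingCat.of K)) ≅ 𝟙_ (Over (Spec (CommRingCat.of K)))) T).trans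
    (ptsAff e K)

end torus

end Groth.Agent.Lib.TorusDescent
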