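import Groth.Agent.H87.GroupLike
import Mathlib

/-!
Splittings of a bialgebra by a group of characters, base change and spreading out.
-/

set_option autoImplicit false
universe u
open scoped TensorProduct
open Groth.Agent.H87

namespace Groth.Agent.Lib.TorusDescent

variable {K : Type u} [Field K] {A : Type u} [CommRing A] [Bialgebra K A]
variable {M : Type} [AddCommGroup M]

/-- `A → A ⊗ A` after base change. -/
noncomputable def comulR (R : Type u) [CommRing R] [Algebra K R] : R ⊗[K] A →ₐ[R] R ⊗[K] (A ⊗[K] A) :=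
  Algebra.TensorProduct.map (AlgHom.id R R) (Bialgebra.comulAlgHom K A)

noncomputable def inl2 (R : Type u) [CommRing R] [Algebra K R] : R ⊗[K] A →ₐ[R] R ⊗[K] (A ⊗[K] A) :=
  Algebra.TensorProduct.map (AlgHom.id R R) Algebra.TensorProduct.includeLeft

noncomputable def inr2 (R : Type u) [CommRing R] [Algebra K R] : R ⊗[K] A →ₐ[R] R ⊗[K] (A ⊗[K] A) :=
  Algebra.TensorProduct.map (AlgHom.id R R) Algebra.TensorProduct.includeRight

/-- A character of `A` over `R`. -/
def IsGL {R : Type u} [CommRing R] [Algebra K R] (g : R ⊗[K] A) : Prop :=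
  IsUnit g ∧ comulR R g = inl2 R g * inr2 R g

variable (K A M) in
/-- A splitting over `R`: a group of characters which is an `R`-basis. -/
structure Splitting (R : Type u) [CommRing R] [Algebra K R] where
  χ : Multiplicative M →* R ⊗[K] A
  comul : ∀ m, comulR R (χ m) = inl2 R (χ m) * inr2 R (χ m)
  bij : Function.Bijective (MonoidAlgebra.lift R (R ⊗[K] A) (Multiplicative M) χ)

variable {R : Type u} [CommRing R] [Algebra K R] {R' : Type u} [CommRing R'] [Algebra K R']

/-- Base change along a homomorphism of coefficient rings. -/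
noncomputable def bcT (f : R →ₐ[K] R') : R ⊗[K] A →ₐ[K] R' ⊗[K] A :=
  Algebra.TensorProduct.map f (AlgHom.id K A)

@[simp] theorem bcT_tmul (f : R →ₐ[K] R') (r : R) (a : A) : bcT f (r ⊗ₜ[K] a) = f r ⊗ₜ[K] a := rfl

theorem bcT_injective (f : R →ₐ[K] R') (hf : Function.Injective f) : Function.Injective (bcT (A := A) f) :=
  Module.Flat.rTensor_preserves_injective_linearMap (M := A) f.toLinearMap hf

/-- Base change on the doubled algebra. -/
noncomputable def bcT2 (f : R →ₐ[K] R') : R ⊗[K] (A ⊗[K] A) →ₐ[K] R' ⊗[K] (A ⊗[K] A) :=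
  Algebra.TensorProduct.map f (AlgHom.id K (A ⊗[K] A))

theorem bcT2_comulR (f : R →ₐ[K] R') (z : R ⊗[K] A) : bcT2 f (comulR R z) = comulR R' (bcT f z) := by
  induction z using TensorProduct.induction_on with
  | zero => simp
  | add x y hx hy => simp only [map_add, hx, hy]
  | tmul r a => simp [bcT2, comulR]

theorem bcT2_inl2 (f : R →ₐ[K] R') (z : R ⊗[K] A) : bcT2 f (inl2 R z) = inl2 R' (bcT f z) := by
  induction z using TensorProduct.induction_on with
  | zero => simp
  | add x y hx hy => simp only [map_add, hx, hy]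
  | tmul r a => simp [bcT2, inl2]

theorem bcT2_inr2 (f : R →ₐ[K] R') (z : R ⊗[K] A) : bcT2 f (inr2 R z) = inr2 R' (bcT f z) := by
  induction z using TensorProduct.induction_on with
  | zero => simp
  | add x y hx hy => simp only [map_add, hx, hy]
  | tmul r a => simp [bcT2, inr2]

theorem IsGL.bc (f : R →ₐ[K] R') {g : R ⊗[K] A} (hg : IsGL g) : IsGL (bcT f g) :=
  ⟨hg.1.map _, by rw [← bcT2_comulR, ← bcT2_inl2, ← bcT2_inr2, hg.2, map_mul]⟩

namespace Splitting

variable (s : Splitting K A M R)

/-- the isomorphism -/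
noncomputable def Ψ : MonoidAlgebra R (Multiplicative M) ≃ₐ[R] R ⊗[K] A :=
  AlgEquiv.ofBijective _ s.bij

theorem Ψ_single (m : Multiplicative M) (r : R) : s.Ψ (MonoidAlgebra.single m r) = r • s.χ m :=
  MonoidAlgebra.lift_single _ _ _

theorem Ψ_symm_χ (m : Multiplicative M) : s.Ψ.symm (s.χ m) = MonoidAlgebra.single m 1 :=
  s.Ψ.injective (by rw [AlgEquiv.apply_symm_apply, s.Ψ_single, one_smul])

theorem χ_isUnit (m : Multiplicative M) : IsUnit (s.χ m) := (Group.isUnit m).map s.χ

theorem isGL (m : Multiplicative M) : IsGL (s.χ m) := ⟨s.χ_isUnit m, s.comul m⟩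

theorem χ_injective [Nontrivial R] : Function.Injective s.χ := fun a b h => by
  have := congrArg s.Ψ.symm h
  rw [s.Ψ_symm_χ, s.Ψ_symm_χ] at this
  exact ((MonoidAlgebra.single_left_inj one_ne_zero).1 this)

/-- The pullback of the coordinates of the universal point. -/
noncomputable def coord : A →ₐ[K] MonoidAlgebra R (Multiplicative M) :=
  (s.Ψ.symm.toAlgHom.restrictScalars K).comp Algebra.TensorProduct.includeRight

theorem coord_apply (a : A) : s.coord a = s.Ψ.symm ((1 : R) ⊗ₜ[K] a) := rfl

theorem Ψ_symm_eq_lift : s.Ψ.symm.toAlgHom =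
    Algebra.TensorProduct.lift (Algebra.ofId R _) s.coord (fun _ _ => Commute.all _ _) := by
  refine Algebra.TensorProduct.ext' fun r a => ?_
  rw [Algebra.TensorProduct.lift_tmul, AlgEquiv.coe_toAlgHom, s.coord_apply]
  rw [show r ⊗ₜ[K] a = r • ((1 : R) ⊗ₜ[K] a) by rw [TensorProduct.smul_tmul', smul_eq_mul, mul_one],
    map_smul, Algebra.smul_def]
  rfl

/-- Two points on the doubled group algebra. -/
noncomputable def pairMap : R ⊗[K] (A ⊗[K] A) →ₐ[R] MonoidAlgebra R (Multiplicative M × Multiplicative M) :=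
  Algebra.TensorProduct.lift (Algebra.ofId R _)
    (Algebra.TensorProduct.lift
      (((MonoidAlgebra.mapDomainAlgHom R R (MonoidHom.inl (Multiplicative M) (Multiplicative M))).restrictScalars K).comp s.coord)
      (((MonoidAlgebra.mapDomainAlgHom R R (MonoidHom.inr (Multiplicative M) (Multiplicative M))).restrictScalars K).comp s.coord)
      (fun _ _ => Commute.all _ _))
    (fun _ _ => Commute.all _ _)

theorem pairMap_inl2 (z : R ⊗[K] A) :
    s.pairMap (inl2 R z) = GroupLike.inl (s.Ψ.symm z) := by
  have : s.pairMap.comp (inl2 R) =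
      (MonoidAlgebra.mapDomainAlgHom R R (MonoidHom.inl _ _)).comp s.Ψ.symm.toAlgHom := by
    refine Algebra.TensorProduct.ext ?_ (AlgHom.ext fun a => ?_)
    · ext
    · simp [pairMap, inl2, s.coord_apply, ← Algebra.TensorProduct.one_def, Prod.mk_one_one, ← MonoidAlgebra.one_def]
  exact congrArg (fun φ => φ z) this

theorem pairMap_inr2 (z : R ⊗[K] A) :
    s.pairMap (inr2 R z) = GroupLike.inr (s.Ψ.symm z) := by
  have : s.pairMap.comp (inr2 R) =
      (MonoidAlgebra.mapDomainAlgHom R R (MonoidHom.inr _ _)).comp s.Ψ.symm.toAlgHom := by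
    refine Algebra.TensorProduct.ext ?_ (AlgHom.ext fun a => ?_)
    · ext
    · simp [pairMap, inr2, s.coord_apply, ← Algebra.TensorProduct.one_def, Prod.mk_one_one, ← MonoidAlgebra.one_def]
  exact congrArg (fun φ => φ z) this

theorem pairMap_comulR (z : R ⊗[K] A) :
    s.pairMap (comulR R z) = GroupLike.diag (s.Ψ.symm z) := by
  have : (s.pairMap.comp (comulR R)).comp s.Ψ.toAlgHom =
      MonoidAlgebra.mapDomainAlgHom R R (MonoidHom.prod (MonoidHom.id _) (MonoidHom.id _)) := by
    refine MonoidAlgebra.algHom_ext (fun m => ?_) ?_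
    · change s.pairMap (comulR R (s.Ψ (MonoidAlgebra.single m 1))) = _
      rw [s.Ψ_single, one_smul, s.comul, map_mul, s.pairMap_inl2, s.pairMap_inr2, s.Ψ_symm_χ]
      simp [GroupLike.inl, GroupLike.inr]
    · ext
  have h := congrArg (fun φ => φ (s.Ψ.symm z)) this
  simpa [GroupLike.diag] using h

/-- Over a field every character is one of the splitting. -/
theorem mem_range_of_isGL {L : Type u} [Field L] [Algebra K L] (s : Splitting K A M L) {g : L ⊗[K] A}
    (hg : IsGL g) : ∃ m, s.χ m = g := by
  classical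
  set x := s.Ψ.symm g
  have hd : GroupLike.diag x = GroupLike.inl x * GroupLike.inr x := by
    rw [← s.pairMap_comulR, hg.2, map_mul, s.pairMap_inl2, s.pairMap_inr2]
  have hc : ∀ p q, (if p = q then x.coeff p else 0) = x.coeff p * x.coeff q := fun p q => by
    rw [← GroupLike.diag_coeff, hd, GroupLike.prod_coeff]
  have hx : x ≠ 0 := fun h => by
    have : g = 0 := s.Ψ.symm.injective (h.trans (map_zero _).symm)
    have hu := hg.1.map s.Ψ.symm
    change IsUnit x at hu
    rw [h] at hu
    exact not_isUnit_zero hu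
  obtain ⟨p, hp⟩ : ∃ p, x.coeff p ≠ 0 := by
    by_contra hcon
    push Not at hcon
    exact hx (MonoidAlgebra.ext (Finsupp.ext fun p => by simp [hcon p]))
  refine ⟨p, s.Ψ.symm.injective ?_⟩
  rw [s.Ψ_symm_χ]
  refine MonoidAlgebra.ext (Finsupp.ext fun q => ?_)
  rw [MonoidAlgebra.coeff_single, Finsupp.single_apply]
  by_cases hpq : p = q
  · subst hpq
    rw [if_pos rfl]
    have := hc p p
    rw [if_pos rfl] at this
    exact (mul_left_cancel₀ hp (this.symm.trans (mul_one _).symm)).symm
  · rw [if_neg hpq]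
    have := hc p q
    rw [if_neg hpq] at this
    exact ((mul_eq_zero.1 this.symm).resolve_left hp).symm

/-- A splitting pulls back along a base change. -/
noncomputable def bc (f : R →ₐ[K] R') : Splitting K A M R' where
  χ := (bcT f).toMonoidHom.comp s.χ
  comul m := by
    change comulR R' (bcT f (s.χ m)) = inl2 R' (bcT f (s.χ m)) * inr2 R' (bcT f (s.χ m))
    rw [← bcT2_comulR, ← bcT2_inl2, ← bcT2_inr2, s.comul, map_mul]
  bij := by
    let Ψ' := MonoidAlgebra.lift R' (R' ⊗[K] A) (Multiplicative M) ((bcT f).toMonoidHom.comp s.χ)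
    let c : A →ₐ[K] MonoidAlgebra R' (Multiplicative M) := (MonoidAlgebra.mapAlgHom (Multiplicative M) f).comp s.coord
    let Φ' : R' ⊗[K] A →ₐ[R'] MonoidAlgebra R' (Multiplicative M) :=
      Algebra.TensorProduct.lift (Algebra.ofId R' _) c (fun _ _ => Commute.all _ _)
    have hcompat : ∀ z : MonoidAlgebra R (Multiplicative M),
        Ψ' (MonoidAlgebra.mapAlgHom (Multiplicative M) f z) = bcT f (s.Ψ z) := by
      intro z
      induction z using MonoidAlgebra.induction_linear with
      | zero => simp
      | add a b ha hb => simp only [map_add, ha, hb]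
      | single m r =>
        rw [s.Ψ_single, show MonoidAlgebra.mapAlgHom (Multiplicative M) f (MonoidAlgebra.single m r) =
          MonoidAlgebra.single m (f r) by simp]
        simp only [Ψ', MonoidAlgebra.lift_single]
        rw [Algebra.smul_def, Algebra.smul_def, map_mul]
        congr 1
    have hΦ : ∀ z : R ⊗[K] A, Φ' (bcT f z) = MonoidAlgebra.mapAlgHom (Multiplicative M) f (s.Ψ.symm z) := by
      intro z
      induction z using TensorProduct.induction_on with
      | zero => simp
      | add a b ha hb => simp only [map_add, ha, hb]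
      | tmul r a =>
        rw [bcT_tmul, show r ⊗ₜ[K] a = r • ((1 : R) ⊗ₜ[K] a) by rw [TensorProduct.smul_tmul', smul_eq_mul, mul_one],
          map_smul, Algebra.smul_def, map_mul]
        simp [Φ', c, s.coord_apply]
    change Function.Bijective Ψ'
    have h1 : ∀ x, Φ' (Ψ' x) = x := fun x => by
      have : Φ'.comp Ψ' = AlgHom.id R' _ := by
        refine MonoidAlgebra.algHom_ext (fun m => ?_) ?_
        · change Φ' (Ψ' (MonoidAlgebra.single m 1)) = MonoidAlgebra.single m 1
          simp only [Ψ', MonoidAlgebra.lift_single, one_smul]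
          change Φ' (bcT f (s.χ m)) = _
          rw [hΦ, s.Ψ_symm_χ]
          simp
        · ext
      exact congrArg (fun φ => φ x) this
    have h2 : ∀ y, Ψ' (Φ' y) = y := fun y => by
      have : Ψ'.comp Φ' = AlgHom.id R' _ := by
        refine Algebra.TensorProduct.ext ?_ (AlgHom.ext fun a => ?_)
        · ext
        · change Ψ' (Φ' ((1 : R') ⊗ₜ[K] a)) = (1 : R') ⊗ₜ[K] a
          have : (1 : R') ⊗ₜ[K] a = bcT f ((1 : R) ⊗ₜ[K] a) := by simp
          rw [this, hΦ, hcompat, AlgEquiv.apply_symm_apply]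
      exact congrArg (fun φ => φ y) this
    exact ⟨Function.LeftInverse.injective h1, fun y => ⟨Φ' y, h2 y⟩⟩

theorem bc_χ (f : R →ₐ[K] R') (m : Multiplicative M) : (s.bc f).χ m = bcT f (s.χ m) := rfl

end Splitting

end Groth.Agent.Lib.TorusDescent
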